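import Mathlib.GroupTheory.Index
import Mathlib.GroupTheory.OrderOfElement
import Mathlib.Data.Nat.Prime.Basic
import Mathlib.GroupTheory.QuotientGroup.Basic
import Mathlib.Data.Fintype.Card
import Mathlib.Algebra.BigOperators.Group.Finset.Basic
import Mathlib.Tactic.IntervalCases
import Mathlib.Tactic.Linarith
import Mathlib.Tactic.Ring

/-!
Planar difference sets in a finite abelian group and their intersections with the cosets of a subgroup of index three.
-/

set_option autoImplicit false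
set_option linter.style.haveILetI false

namespace CfsgLib.Singer3

variable {P : Type*} [CommGroup P]

/-- a planar difference set of order `q` -/
structure PDS (D : Set P) (q : ℕ) : Prop where
  card : Nat.card D = q + 1
  cardP : Nat.card P = q ^ 2 + q + 1
  uniq : ∀ x : P, x ≠ 1 → ∃! d, d ∈ D ∧ x * d ∈ D

variable {D : Set P} {q : ℕ}

/-- the number of elements of `D` in a coset -/
noncomputable def cnt (D : Set P) (S : Subgroup P) (c : P ⧸ S) : ℕ := Nat.card {d : P // d ∈ D ∧ (d : P ⧸ S) = c}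

theorem sum_cnt [Finite P] (hD : PDS D q) (S : Subgroup P) [Fintype (P ⧸ S)] : ∑ c : P ⧸ S, cnt D S c = q + 1 := by
  rw [← hD.card]
  unfold cnt
  rw [← Nat.card_sigma]
  exact Nat.card_congr
    { toFun := fun x => ⟨x.2.1, x.2.2.1⟩
      invFun := fun d => ⟨(d.1 : P ⧸ S), d.1, d.2, rfl⟩
      left_inv := fun ⟨c, d, h, e⟩ => by subst e; rfl
      right_inv := fun _ => rfl }

theorem sum_sq_cnt [Finite P] (hD : PDS D q) (S : Subgroup P) [Fintype (P ⧸ S)] :
    ∑ c : P ⧸ S, cnt D S c * cnt D S c + 1 = q + 1 + Nat.card S := by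
  classical
  haveI : Fintype P := Fintype.ofFinite P
  have h1 : ∑ c : P ⧸ S, cnt D S c * cnt D S c =
      Nat.card {p : P × P // p.1 ∈ D ∧ p.2 ∈ D ∧ (p.1 : P ⧸ S) = (p.2 : P ⧸ S)} := by
    unfold cnt
    simp only [← Nat.card_prod]
    rw [← Nat.card_sigma]
    exact Nat.card_congr
      { toFun := fun x => ⟨(x.2.1.1, x.2.2.1), x.2.1.2.1, x.2.2.2.1, x.2.1.2.2.trans x.2.2.2.2.symm⟩
        invFun := fun p => ⟨(p.1.1 : P ⧸ S), ⟨p.1.1, p.2.1, rfl⟩, ⟨p.1.2, p.2.2.1, p.2.2.2.symm⟩⟩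
        left_inv := fun ⟨c, ⟨d, hd, e⟩, ⟨d', hd', e'⟩⟩ => by subst e; rfl
        right_inv := fun _ => rfl }
  rw [h1]
  let T := {p : P × P // p.1 ∈ D ∧ p.2 ∈ D ∧ (p.1 : P ⧸ S) = (p.2 : P ⧸ S)}
  have hsplit : Nat.card T = Nat.card {x : T // x.1.1 = x.1.2} + Nat.card {x : T // ¬ x.1.1 = x.1.2} := by
    rw [← Nat.card_sum]
    exact Nat.card_congr (Equiv.sumCompl _).symm
  have hdiag : Nat.card {x : T // x.1.1 = x.1.2} = q + 1 := by
    rw [← hD.card]
    exact Nat.card_congr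
      { toFun := fun x => ⟨x.1.1.1, x.1.2.1⟩
        invFun := fun d => ⟨⟨(d.1, d.1), d.2, d.2, rfl⟩, rfl⟩
        left_inv := fun ⟨⟨⟨a, b⟩, h⟩, e⟩ => by
          simp only at e
          subst e; rfl
        right_inv := fun _ => rfl }
  have hoff : Nat.card {x : T // ¬ x.1.1 = x.1.2} + 1 = Nat.card S := by
    let f : {x : T // ¬ x.1.1 = x.1.2} → {s : S // s ≠ 1} := fun x =>
      ⟨⟨x.1.1.1⁻¹ * x.1.1.2, QuotientGroup.eq.1 x.1.2.2.2⟩, fun h => x.2 (inv_mul_eq_one.1 (congrArg Subtype.val h))⟩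
    have hf : Function.Bijective f := by
      constructor
      · rintro ⟨⟨⟨a, b⟩, ha, hb, hc⟩, hne⟩ ⟨⟨⟨a', b'⟩, ha', hb', hc'⟩, hne'⟩ h
        have h' : a⁻¹ * b = a'⁻¹ * b' := congrArg (fun z => ((z.1 : S) : P)) h
        have hne1 : a⁻¹ * b ≠ 1 := fun e => hne (inv_mul_eq_one.1 e)
        obtain ⟨d, -, hu⟩ := hD.uniq _ hne1
        have e1 : a = d := hu a ⟨ha, by rwa [mul_comm, mul_inv_cancel_left]⟩
        have e2 : a' = d := hu a' ⟨ha', by rwa [h', mul_comm, mul_inv_cancel_left]⟩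
        obtain rfl : a = a' := e1.trans e2.symm
        obtain rfl : b = b' := mul_left_cancel h'
        rfl
      · rintro ⟨⟨s, hs⟩, hne⟩
        obtain ⟨d, ⟨hd, hd'⟩, -⟩ := hD.uniq s fun h => hne (Subtype.ext h)
        refine ⟨⟨⟨(d, s * d), hd, hd', QuotientGroup.eq.2 ?_⟩, fun h => hne (Subtype.ext ?_)⟩, ?_⟩
        · rw [mul_comm s, inv_mul_cancel_left]; exact hs
        · exact mul_right_cancel (b := d) (h.symm.trans (one_mul d).symm)
        · apply Subtype.ext; apply Subtype.ext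
          show d⁻¹ * (s * d) = s
          rw [mul_comm s, inv_mul_cancel_left]
    rw [Nat.card_congr (Equiv.ofBijective f hf), ← Nat.card_congr (Equiv.optionSubtypeNe (1 : S)), Finite.card_option]
  show Nat.card T + 1 = _
  rw [hsplit, hdiag, add_assoc, hoff]

/-- the equations for the three coset intersections, attached to any coset -/
theorem triple [Finite P] (hD : PDS D q) {S : Subgroup P} (hS : S.index = 3) (a : P ⧸ S) :
    ∃ b c : P ⧸ S, a ≠ b ∧ a ≠ c ∧ b ≠ c ∧ (∀ x, x = a ∨ x = b ∨ x = c) ∧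
      cnt D S a + cnt D S b + cnt D S c = q + 1 ∧
      3 * (cnt D S a ^ 2 + cnt D S b ^ 2 + cnt D S c ^ 2) = q ^ 2 + 4 * q + 1 := by
  classical
  haveI : Fintype (P ⧸ S) := Fintype.ofFinite _
  have h3 : Fintype.card (P ⧸ S) = 3 := by rw [← Nat.card_eq_fintype_card]; exact hS
  have hu : (Finset.univ.erase a).card = 2 := by
    rw [Finset.card_erase_of_mem (Finset.mem_univ _), Finset.card_univ, h3]
  obtain ⟨b, c, hbc, he⟩ := Finset.card_eq_two.1 hu
  have hab : a ≠ b := (Finset.mem_erase.1 (he ▸ Finset.mem_insert_self b _ : b ∈ Finset.univ.erase a)).1.symm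
  have hac : a ≠ c := (Finset.mem_erase.1 (he ▸ Finset.mem_insert_of_mem (Finset.mem_singleton_self c) :
    c ∈ Finset.univ.erase a)).1.symm
  have key : ∀ f : P ⧸ S → ℕ, ∑ x, f x = f a + f b + f c := fun f => by
    rw [← Finset.add_sum_erase _ _ (Finset.mem_univ a), he, Finset.sum_pair hbc, add_assoc]
  refine ⟨b, c, hab, hac, hbc, fun x => ?_, (key (cnt D S)).symm.trans (sum_cnt hD S), ?_⟩
  · by_cases hx : x = a
    · exact Or.inl hx
    · have : x ∈ Finset.univ.erase a := Finset.mem_erase.2 ⟨hx, Finset.mem_univ _⟩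
      rw [he] at this
      simpa using Or.inr this
  · have h := sum_sq_cnt hD S
    rw [key] at h
    have hc : S.index * Nat.card S = q ^ 2 + q + 1 := S.index_mul_card.trans hD.cardP
    rw [hS] at hc
    nlinarith

/-! numerical facts on three numbers with that sum and square sum -/

variable {a b c : ℕ}

theorem ne_zero_two (hq : 7 ≤ q) (h1 : a + b + c = q + 1) (h2 : 3 * (a ^ 2 + b ^ 2 + c ^ 2) = q ^ 2 + 4 * q + 1) :
    a ≠ 0 ∧ a ≠ 2 := by
  constructor
  · rintro rfl
    have := two_mul_le_add_sq (b : ℤ) c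
    have h1' : (b : ℤ) + c = q + 1 := by exact_mod_cast (by omega : b + c = q + 1)
    have h2' : (3 : ℤ) * (b ^ 2 + c ^ 2) = q ^ 2 + 4 * q + 1 := by exact_mod_cast (by simpa using h2)
    nlinarith
  · rintro rfl
    by_cases hq12 : 12 ≤ q
    · have := two_mul_le_add_sq (b : ℤ) c
      have h1' : (b : ℤ) + c = q - 1 := by
        have : b + c + 1 = q := by omega
        omega
      have h2' : (3 : ℤ) * (4 + b ^ 2 + c ^ 2) = q ^ 2 + 4 * q + 1 := by exact_mod_cast (by simpa using h2)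
      nlinarith
    · have hb : b ≤ 11 := by omega
      obtain ⟨d, hd⟩ : ∃ d, d = q - 1 - b := ⟨_, rfl⟩
      have hc : c = d := by omega
      subst hc
      interval_cases q <;> interval_cases b <;> subst hd <;> omega

theorem ge_three (hq : 12 ≤ q) (h1 : a + b + c = q + 1) (h2 : 3 * (a ^ 2 + b ^ 2 + c ^ 2) = q ^ 2 + 4 * q + 1) :
    3 ≤ a := by
  by_contra h
  have h' := ne_zero_two (by omega) h1 h2
  obtain rfl : a = 1 := by omega
  have := two_mul_le_add_sq (b : ℤ) c
  have h1' : (b : ℤ) + c = q := by exact_mod_cast (by omega : b + c = q)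
  have h2' : (3 : ℤ) * (1 + b ^ 2 + c ^ 2) = q ^ 2 + 4 * q + 1 := by exact_mod_cast (by simpa using h2)
  nlinarith

theorem not_equal (hq : 2 ≤ q) (h1 : a + b + c = q + 1) (h2 : 3 * (a ^ 2 + b ^ 2 + c ^ 2) = q ^ 2 + 4 * q + 1)
    (hab : a = b) (hac : a = c) : False := by
  subst hab; subst hac; nlinarith

theorem three_not_mod_four (hq : 16 ≤ q) (h1 : 3 + b + c = q + 1) (h2 : 3 * (3 ^ 2 + b ^ 2 + c ^ 2) = q ^ 2 + 4 * q + 1)
    (hb : b % 4 = 1) : False := by
  have := two_mul_le_add_sq (b : ℤ) c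
  have h1' : (b : ℤ) + c = q - 2 := by
    have : b + c + 2 = q := by omega
    omega
  have h2' : (3 : ℤ) * (9 + b ^ 2 + c ^ 2) = q ^ 2 + 4 * q + 1 := by exact_mod_cast (by simpa using h2)
  have hq16 : q = 16 := by
    by_contra hne
    have : (17 : ℤ) ≤ q := by omega
    nlinarith
  subst hq16
  have hb14 : b ≤ 14 := by omega
  obtain ⟨d, hd⟩ : ∃ d, d = 14 - b := ⟨_, rfl⟩
  have hc : c = d := by omega
  subst hc
  interval_cases b <;> subst hd <;> omega

/-! the symmetry argument -/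

theorem inv_closed_false [Finite P] (hD : PDS D q) (hq : 2 ≤ q) (S : Subgroup P)
    (hS : S = ⊤ ∨ S.index = 3 ∧ 7 ≤ q) (h1 : (1 : P) ∉ D) (hodd : Odd (q ^ 2 + q + 1))
    (hinv : ∀ x ∈ S, x ∈ D → x⁻¹ ∈ D) : False := by
  classical
  haveI : Fintype P := Fintype.ofFinite P
  let X := {d : P // d ∈ D ∧ (d : P ⧸ S) = ((1 : P) : P ⧸ S)}
  have hXS : ∀ x : X, x.1 ∈ S := fun x => by
    have := QuotientGroup.eq.1 x.2.2
    simpa using this
  have hsq : ∀ x : P, x * x = 1 → x = 1 := by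
    intro x hx
    have h2 : orderOf x ∣ 2 := orderOf_dvd_of_pow_eq_one (by rw [sq, hx])
    have h3 : orderOf x ∣ Nat.card P := orderOf_dvd_natCard x
    rw [hD.cardP] at h3
    rcases (Nat.dvd_prime Nat.prime_two).1 h2 with h | h
    · exact orderOf_eq_one_iff.1 h
    · rw [h] at h3
      obtain ⟨k, hk⟩ := hodd
      omega
  have hpair : ∀ x y : X, x ≠ y → y.1 = x.1⁻¹ := by
    intro x y hne
    have hk : y.1⁻¹ * x.1 ≠ 1 := fun h => hne (Subtype.ext (inv_mul_eq_one.1 h).symm)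
    obtain ⟨d, -, hu⟩ := hD.uniq _ hk
    have e1 : y.1 = d := hu _ ⟨y.2.1, by rw [mul_comm, mul_inv_cancel_left]; exact x.2.1⟩
    have e2 : x.1⁻¹ = d := hu _ ⟨hinv _ (hXS x) x.2.1, by
      rw [mul_inv_cancel_right]; exact hinv _ (hXS y) y.2.1⟩
    exact e1.trans e2.symm
  have hcard : Nat.card X = 0 ∨ Nat.card X = 2 := by
    rcases isEmpty_or_nonempty X with h | ⟨⟨x⟩⟩
    · exact Or.inl Nat.card_of_isEmpty
    · right
      let y : X := ⟨x.1⁻¹, hinv _ (hXS x) x.2.1, QuotientGroup.eq.2 (by simpa using hXS x)⟩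
      have hxy : x ≠ y := fun h => h1 (by
        have := hsq x.1 (mul_eq_one_iff_eq_inv.2 (congrArg Subtype.val h))
        rw [← this]; exact x.2.1)
      have huniv : (Finset.univ : Finset X) = {x, y} := by
        ext z
        simp only [Finset.mem_univ, Finset.mem_insert, Finset.mem_singleton, true_iff]
        by_cases hzx : z = x
        · exact Or.inl hzx
        · exact Or.inr (Subtype.ext (hpair x z (Ne.symm hzx)))
      rw [Nat.card_eq_fintype_card, ← Finset.card_univ, huniv, Finset.card_pair hxy]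
  rcases hS with rfl | ⟨hi, h7⟩
  · have : Nat.card X = q + 1 := by
      rw [← hD.card]
      exact Nat.card_congr (Equiv.subtypeEquivRight fun d => ⟨fun h => h.1, fun h => ⟨h, QuotientGroup.eq.2 (Subgroup.mem_top _)⟩⟩)
    omega
  · obtain ⟨b, c, -, -, -, -, e1, e2⟩ := triple hD hi ((1 : P) : P ⧸ S)
    have := ne_zero_two h7 e1 e2
    rcases hcard with h | h
    · exact this.1 h
    · exact this.2 h

end CfsgLib.Singer3
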