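import Cfsg.Agent.Lib.Singer3.Torus

/-! Elations in an overgroup of the torus: flags, closure, duality, and orbits on a line through the centre. -/

set_option autoImplicit false
set_option linter.style.haveILetI false
set_option linter.unusedSectionVars false

namespace CfsgLib.Singer3

open Module

variable {F K : Type*} [Field F] [Field K] [Algebra F K] [Finite K] (Φ : Frame F K) {G : Subgroup (K ≃ₗ[F] K)}

theorem finite_aut : Finite (K ≃ₗ[F] K) := Finite.of_injective (fun g => (g : K → K)) DFunLike.coe_injective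

namespace Frame

/-- `G` has the transvection with centre `u` and functional `k` -/
def Mem (G : Subgroup (K ≃ₗ[F] K)) (u k : K) : Prop :=
  Φ.θ (k * u) = 0 ∧ ∃ g ∈ G, ∀ z, g z = z + Φ.θ (k * z) • u

/-- a flag carrying a transvection of `G` -/
def Flag (G : Subgroup (K ≃ₗ[F] K)) (x l : Pt F K) : Prop :=
  ∃ u k : Kˣ, (u : Pt F K) = x ∧ (k : Pt F K) = l ∧ Φ.Mem G u k

variable {Φ}

theorem mem_zero (u : K) : Φ.Mem G u 0 := ⟨by simp, 1, one_mem G, fun z => by simp⟩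

theorem mem_neg {u k : K} (h : Φ.Mem G u k) : Φ.Mem G u (-k) := by
  obtain ⟨h0, g, hg, hgz⟩ := h
  refine ⟨by rw [neg_mul, map_neg, h0, neg_zero], g⁻¹, inv_mem hg, fun z => ?_⟩
  apply g.injective
  rw [← LinearEquiv.mul_apply, mul_inv_cancel, hgz]
  simp only [neg_mul, map_neg, neg_smul, LinearEquiv.coe_one, id_eq, mul_add, mul_neg, mul_smul_comm, map_add, map_neg,
    map_smul, h0, smul_eq_mul, mul_zero, neg_zero, add_zero]
  abel

theorem mem_add {u k k' : K} (h : Φ.Mem G u k) (h' : Φ.Mem G u k') : Φ.Mem G u (k + k') := by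
  obtain ⟨h0, g, hg, hgz⟩ := h
  obtain ⟨h0', g', hg', hgz'⟩ := h'
  refine ⟨by rw [add_mul, map_add, h0, h0', add_zero], g * g', mul_mem hg hg', fun z => ?_⟩
  rw [LinearEquiv.mul_apply, hgz', hgz, mul_add, map_add, mul_smul_comm, map_smul, h0, smul_zero, add_zero, add_mul,
    map_add, add_smul]
  abel

theorem mem_add_centre {u u' k : K} (h : Φ.Mem G u k) (h' : Φ.Mem G u' k) : Φ.Mem G (u + u') k := by
  obtain ⟨h0, g, hg, hgz⟩ := h
  obtain ⟨h0', g', hg', hgz'⟩ := h'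
  refine ⟨by rw [mul_add, map_add, h0, h0', add_zero], g * g', mul_mem hg hg', fun z => ?_⟩
  rw [LinearEquiv.mul_apply, hgz', hgz, mul_add, map_add, mul_smul_comm, map_smul, h0', smul_zero, add_zero, smul_add]
  abel

theorem mem_smul_left {u k : K} (h : Φ.Mem G u k) {c : F} (hc : c ≠ 0) : Φ.Mem G (c • u) (c⁻¹ • k) := by
  obtain ⟨h0, g, hg, hgz⟩ := h
  refine ⟨by rw [smul_mul_smul_comm, map_smul, h0, smul_zero], g, hg, fun z => ?_⟩
  rw [hgz, smul_mul_assoc, map_smul, smul_smul, smul_eq_mul, mul_comm c⁻¹, mul_assoc, inv_mul_cancel₀ hc, mul_one]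

theorem mem_conj {u k : K} (h : Φ.Mem G u k) {g : K ≃ₗ[F] K} (hg : g ∈ G) : Φ.Mem G (g u) (Φ.dual g k) := by
  obtain ⟨h0, t, ht, htz⟩ := h
  refine ⟨by rw [Φ.dual_spec, h0], g * t * g⁻¹, mul_mem (mul_mem hg ht) (inv_mem hg), fun z => ?_⟩
  obtain ⟨w, rfl⟩ := g.surjective z
  rw [LinearEquiv.mul_apply, LinearEquiv.mul_apply, ← LinearEquiv.mul_apply g⁻¹ g, inv_mul_cancel, LinearEquiv.coe_one,
    id_eq, htz, map_add, map_smul, Φ.dual_spec]

/-- the dual group -/
noncomputable def dualGroup (Φ : Frame F K) (G : Subgroup (K ≃ₗ[F] K)) : Subgroup (K ≃ₗ[F] K) := G.map Φ.dual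

theorem mem_dual {u k : K} (h : Φ.Mem G u k) : Φ.Mem (Φ.dualGroup G) k u := by
  obtain ⟨h0, t, ht, htz⟩ := h
  have : Φ.Mem (Φ.dualGroup G) k (-u) := by
    refine ⟨by rw [neg_mul, map_neg, mul_comm, h0, neg_zero], Φ.dual t, Subgroup.mem_map_of_mem _ ht, fun y => ?_⟩
    refine Φ.eq_dual fun z => ?_
    simp only [htz, add_mul, mul_add, mul_smul_comm, smul_mul_assoc, map_add, map_smul, neg_mul, map_neg, h0, smul_eq_mul,
      mul_comm u y]
    ring
  simpa using mem_neg this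

theorem dualGroup_dualGroup : Φ.dualGroup (Φ.dualGroup G) = G := by
  rw [dualGroup, dualGroup, Subgroup.map_map]
  convert Subgroup.map_id G
  exact MonoidHom.ext Φ.dual_dual

theorem over_dual (hG : Over G) : Over (Φ.dualGroup G) := fun a ha =>
  ⟨mulL a⁻¹, hG _ (inv_mem ha), by rw [Φ.dual_mulL, inv_inv]⟩

theorem flag_inc {x l : Pt F K} (h : Φ.Flag G x l) : l * x ∈ Φ.D := by
  obtain ⟨u, k, rfl, rfl, h⟩ := h
  exact Φ.inc_iff.2 h.1

theorem flag_dual {x l : Pt F K} (h : Φ.Flag G x l) : Φ.Flag (Φ.dualGroup G) l x := by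
  obtain ⟨u, k, hu, hk, h⟩ := h
  exact ⟨k, u, hk, hu, mem_dual h⟩

theorem flag_of_dual {x l : Pt F K} (h : Φ.Flag (Φ.dualGroup G) l x) : Φ.Flag G x l := by
  have := flag_dual h
  rwa [dualGroup_dualGroup] at this

theorem flag_conj {x l : Pt F K} (h : Φ.Flag G x l) {g : K ≃ₗ[F] K} (hg : g ∈ G) :
    Φ.Flag G (perm g x) (perm (Φ.dual g) l) := by
  obtain ⟨u, k, rfl, rfl, h⟩ := h
  exact ⟨unitOf g u, unitOf (Φ.dual g) k, (perm_mk g u).symm, (perm_mk _ k).symm, mem_conj h hg⟩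

theorem flag_rep {x l : Pt F K} (h : Φ.Flag G x l) {u : Kˣ} (hu : (u : Pt F K) = x) :
    ∃ k : Kˣ, (k : Pt F K) = l ∧ Φ.Mem G u k := by
  obtain ⟨u', k, hu', hk, h⟩ := h
  obtain ⟨c, hc⟩ := pt_eq.1 (hu'.trans hu.symm)
  have hc0 : c ≠ 0 := fun h0 => u.ne_zero (by rw [hc, h0, zero_smul])
  refine ⟨Units.mk0 (c⁻¹ • (k : K)) (smul_ne_zero (inv_ne_zero hc0) k.ne_zero), ?_, ?_⟩
  · rw [← hk, eq_comm]
    exact pt_eq.2 ⟨c⁻¹, rfl⟩
  · show Φ.Mem G u (c⁻¹ • (k : K))
    rw [hc]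
    exact mem_smul_left h hc0

/-- two points on two lines -/
theorem inc_unique {x y l m : Pt F K} (h1 : l * x ∈ Φ.D) (h2 : l * y ∈ Φ.D) (h3 : m * x ∈ Φ.D) (h4 : m * y ∈ Φ.D)
    (hne : l ≠ m) : x = y := by
  obtain ⟨d, -, hu⟩ := Φ.uniq (m * l⁻¹) fun h => hne (mul_inv_eq_one.1 h).symm
  have e1 : l * x = d := hu _ ⟨h1, by rwa [mul_assoc, inv_mul_cancel_left]⟩
  have e2 : l * y = d := hu _ ⟨h2, by rwa [mul_assoc, inv_mul_cancel_left]⟩
  exact mul_left_cancel (e1.trans e2.symm)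

/-- the closure rule: a centre on an axis is a centre for that axis -/
theorem flag_closure {x l l' y : Pt F K} (h : Φ.Flag G x l') (h' : Φ.Flag G y l) (hinc : l * x ∈ Φ.D) :
    Φ.Flag G x l := by
  obtain ⟨u₁, k₁, rfl, rfl, h₁⟩ := h
  obtain ⟨u₂, k₂, rfl, rfl, h₂⟩ := h'
  rw [Φ.inc_iff] at hinc
  by_cases h12 : Φ.θ ((k₁ : K) * u₂) = 0
  · by_cases hl : (k₁ : Pt F K) = (k₂ : Pt F K)
    · exact ⟨u₁, k₁, rfl, hl, h₁⟩
    · have := inc_unique (Φ := Φ) (x := (u₁ : Pt F K)) (y := (u₂ : Pt F K)) (Φ.inc_iff.2 h₁.1) (Φ.inc_iff.2 h12)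
        (Φ.inc_iff.2 hinc) (Φ.inc_iff.2 h₂.1) hl
      exact ⟨u₂, k₂, this.symm, rfl, h₂⟩
  · obtain ⟨h10, g, hg, hgz⟩ := h₁
    have hc := mem_conj h₂ hg
    have hd : Φ.dual g k₂ = (k₂ : K) := Φ.eq_dual fun z => by
      rw [hgz, mul_add, map_add, mul_smul_comm, map_smul, hinc, smul_zero, add_zero]
    rw [hd, hgz] at hc
    have h2n : Φ.Mem G (-(u₂ : K)) k₂ := by
      have := mem_smul_left (mem_neg h₂) (c := (-1 : F)) (by norm_num)
      simpa [inv_neg] using this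
    have := mem_add_centre hc h2n
    rw [show (u₂ : K) + Φ.θ ((k₁ : K) * u₂) • (u₁ : K) + -(u₂ : K) = Φ.θ ((k₁ : K) * u₂) • (u₁ : K) by abel] at this
    refine ⟨Units.mk0 _ (smul_ne_zero h12 u₁.ne_zero), k₂, ?_, rfl, this⟩
    exact (pt_eq.2 ⟨_, rfl⟩).symm

/-- functionals of the transvections with centre `u` -/
def func (Φ : Frame F K) (G : Subgroup (K ≃ₗ[F] K)) (u : K) : AddSubgroup K where
  carrier := {k | Φ.Mem G u k}
  zero_mem' := mem_zero u
  add_mem' h h' := mem_add h h'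
  neg_mem' h := mem_neg h

/-- the part on one line -/
def funcOn (Φ : Frame F K) (G : Subgroup (K ≃ₗ[F] K)) (u m : K) : AddSubgroup K :=
  Φ.func G u ⊓ (Submodule.span F {m}).toAddSubgroup

theorem mem_funcOn {u m k : K} : k ∈ Φ.funcOn G u m ↔ Φ.Mem G u k ∧ ∃ c : F, c • m = k := by
  rw [funcOn, AddSubgroup.mem_inf, Submodule.mem_toAddSubgroup, Submodule.mem_span_singleton]; rfl

theorem exists_card_pow {p : ℕ} [Fact p.Prime] [CharP K p] (A : AddSubgroup K) : ∃ n, Nat.card A = p ^ n := by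
  have h : IsPGroup p (Multiplicative A) := fun g => ⟨1, by
    rw [pow_one]
    apply Multiplicative.toAdd.injective
    rw [toAdd_pow, toAdd_one]
    apply Subtype.ext
    rw [AddSubmonoidClass.coe_nsmul, nsmul_eq_mul, CharP.cast_eq_zero, zero_mul]
    rfl⟩
  obtain ⟨n, hn⟩ := h.exists_card_eq
  exact ⟨n, by rw [← hn]; exact Nat.card_congr Multiplicative.ofAdd⟩

/-- the elations with centre `u` -/
def elat (Φ : Frame F K) (G : Subgroup (K ≃ₗ[F] K)) (u : K) : Subgroup (K ≃ₗ[F] K) where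
  carrier := {g | g ∈ G ∧ ∃ k, Φ.θ (k * u) = 0 ∧ ∀ z, g z = z + Φ.θ (k * z) • u}
  one_mem' := ⟨one_mem G, 0, by simp, fun z => by simp⟩
  mul_mem' := by
    rintro g g' ⟨hg, k, hk, hz⟩ ⟨hg', k', hk', hz'⟩
    refine ⟨mul_mem hg hg', k + k', by rw [add_mul, map_add, hk, hk', add_zero], fun z => ?_⟩
    rw [LinearEquiv.mul_apply, hz', hz, mul_add, map_add, mul_smul_comm, map_smul, hk, smul_zero, add_zero, add_mul,
      map_add, add_smul]
    abel
  inv_mem' := by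
    rintro g ⟨hg, k, hk, hz⟩
    refine ⟨inv_mem hg, -k, by rw [neg_mul, map_neg, hk, neg_zero], fun z => ?_⟩
    apply g.injective
    rw [← LinearEquiv.mul_apply, mul_inv_cancel, hz]
    simp only [neg_mul, map_neg, neg_smul, LinearEquiv.coe_one, id_eq, mul_add, mul_neg, mul_smul_comm, map_add,
      map_neg, map_smul, hk, smul_eq_mul, mul_zero, neg_zero, add_zero]
    abel

theorem card_elat (Φ : Frame F K) (G : Subgroup (K ≃ₗ[F] K)) (u : Kˣ) : Nat.card (Φ.elat G u) = Nat.card (Φ.func G u) := by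
  refine Nat.card_eq_of_bijective (fun g => ⟨g.2.2.choose, g.2.2.choose_spec.1, g.1, g.2.1, g.2.2.choose_spec.2⟩) ⟨?_, ?_⟩
  · intro g g' h
    have h' : g.2.2.choose = g'.2.2.choose := congrArg Subtype.val h
    exact Subtype.ext (LinearEquiv.ext fun z => by rw [g.2.2.choose_spec.2, g'.2.2.choose_spec.2, h'])
  · rintro ⟨k, hk, g, hg, hz⟩
    refine ⟨⟨g, hg, k, hk, hz⟩, Subtype.ext ?_⟩
    set e : ↥(Φ.elat G u) := ⟨g, hg, k, hk, hz⟩
    have h1 := e.2.2.choose_spec.2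
    refine Φ.tk_injective (LinearMap.ext fun z => ?_)
    have h2 := (h1 z).symm.trans (hz z)
    exact smul_left_injective F u.ne_zero (add_left_cancel h2)

theorem dvd_of_const_stabilizer {H Y : Type*} [Group H] [Finite H] [Finite Y] [MulAction H Y] {s : ℕ}
    (h : ∀ y : Y, Nat.card (MulAction.stabilizer H y) = s) : Nat.card H ∣ Nat.card Y * s := by
  classical
  haveI : Fintype Y := Fintype.ofFinite Y
  haveI : Fintype (Quotient (MulAction.orbitRel H Y)) := Fintype.ofFinite _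
  rw [Nat.card_congr (MulAction.selfEquivSigmaOrbits H Y), Nat.card_sigma, Finset.sum_mul]
  refine Finset.dvd_sum fun o _ => ?_
  rw [← h o.out, Nat.card_congr (MulAction.orbitEquivQuotientStabilizer H o.out), ← Subgroup.index, Subgroup.index_mul_card]

/-- points of an invariant class on a line through the centre, other than the centre -/
theorem dvd_line {c : Pt F K ⧸ torus F K} (hc : InvClass G c) (u m : Kˣ) (hm : Φ.θ ((m : K) * u) = 0) :
    Nat.card (Φ.func G u) ∣ Nat.card {y : Pt F K // (m : Pt F K) * y ∈ Φ.D ∧ (y : Pt F K ⧸ torus F K) = c ∧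
      y ≠ (u : Pt F K)} * Nat.card (Φ.funcOn G u m) := by
  let Y := {y : Pt F K // (m : Pt F K) * y ∈ Φ.D ∧ (y : Pt F K ⧸ torus F K) = c ∧ y ≠ (u : Pt F K)}
  have hfix : ∀ g ∈ Φ.elat G u, perm g (u : Pt F K) = (u : Pt F K) := by
    rintro g ⟨-, k, hk, hz⟩
    exact perm_eq_iff.2 ⟨1, by rw [hz, hk, zero_smul, add_zero, one_smul]⟩
  have hinv : ∀ g ∈ Φ.elat G u, ∀ y : Y, (m : Pt F K) * perm g y.1 ∈ Φ.D ∧
      (perm g y.1 : Pt F K ⧸ torus F K) = c ∧ perm g y.1 ≠ (u : Pt F K) := by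
    rintro g hg ⟨y, hy1, hy2, hy3⟩
    refine ⟨?_, hc g hg.1 y hy2, fun h => hy3 ((perm g).injective (h.trans (hfix g hg).symm))⟩
    obtain ⟨-, k, hk, hz⟩ := hg
    induction y using QuotientGroup.induction_on with
    | H w =>
      rw [perm_mk, Φ.inc_iff]
      rw [Φ.inc_iff] at hy1
      show Φ.θ ((m : K) * g (w : K)) = 0
      rw [hz, mul_add, map_add, hy1, mul_smul_comm, map_smul, hm, smul_zero, add_zero]
  letI act : MulAction ↥(Φ.elat G u) Y :=
    { smul := fun g y => ⟨perm g.1 y.1, hinv g.1 g.2 y⟩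
      one_smul := fun y => Subtype.ext (by show perm 1 y.1 = y.1; rw [map_one]; rfl)
      mul_smul := fun g h y => Subtype.ext (by show perm (g.1 * h.1) y.1 = _; rw [map_mul]; rfl) }
  haveI : Finite Y := Subtype.finite
  haveI := finite_aut (F := F) (K := K)
  rw [← card_elat]
  refine dvd_of_const_stabilizer fun y => ?_
  refine Nat.card_eq_of_bijective (fun g => ⟨g.1.2.2.choose, ?_⟩) ⟨?_, ?_⟩
  · obtain ⟨y, hy1, hy2, hy3⟩ := y
    induction y using QuotientGroup.induction_on with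
    | H w =>
      have hk := g.1.2.2.choose_spec
      have hgy : perm g.1.1 (w : Pt F K) = (w : Pt F K) := congrArg Subtype.val g.2
      obtain ⟨a, ha⟩ := perm_eq_iff.1 hgy
      rw [hk.2] at ha
      have hkw : Φ.θ (g.1.2.2.choose * w) = 0 := by
        by_contra hne
        apply hy3
        refine (pt_eq.2 ⟨(Φ.θ (g.1.2.2.choose * w))⁻¹ * (a - 1), ?_⟩)
        rw [mul_smul, sub_smul, one_smul, ← ha, add_sub_cancel_left, inv_smul_smul₀ hne]
      refine mem_funcOn.2 ⟨⟨hk.1, g.1.1, g.1.2.1, hk.2⟩, ?_⟩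
      by_cases h0 : g.1.2.2.choose = 0
      · exact ⟨0, by rw [zero_smul, h0]⟩
      · obtain ⟨k', hk'⟩ := exists_pt h0
        have : (m : Pt F K) = (k' : Pt F K) := by
          by_contra hne
          apply hy3
          refine (inc_unique (Φ := Φ) (l := (m : Pt F K)) (m := (k' : Pt F K)) hy1 (Φ.inc_iff.2 hm) ?_ ?_ hne)
          · rw [Φ.inc_iff, hk']; exact hkw
          · rw [Φ.inc_iff, hk']; exact hk.1
        obtain ⟨b, hb⟩ := pt_eq.1 this
        exact ⟨b, by rw [← hb, hk']⟩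
  · intro g g' h
    have h' : g.1.2.2.choose = g'.1.2.2.choose := congrArg Subtype.val h
    exact Subtype.ext (Subtype.ext (LinearEquiv.ext fun z => by
      rw [g.1.2.2.choose_spec.2, g'.1.2.2.choose_spec.2, h']))
  · rintro ⟨k, hk⟩
    obtain ⟨⟨hku, g, hg, hz⟩, a, rfl⟩ := mem_funcOn.1 hk
    obtain ⟨y, hy1, hy2, hy3⟩ := y
    let e : ↥(Φ.elat G u) := ⟨g, hg, _, hku, hz⟩
    refine ⟨⟨e, Subtype.ext ?_⟩, Subtype.ext ?_⟩
    · induction y using QuotientGroup.induction_on with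
      | H w =>
        show perm g (w : Pt F K) = (w : Pt F K)
        rw [Φ.inc_iff] at hy1
        refine perm_eq_iff.2 ⟨1, ?_⟩
        rw [hz, smul_mul_assoc, map_smul, hy1, smul_zero, zero_smul, add_zero, one_smul]
    · refine Φ.tk_injective (LinearMap.ext fun z => ?_)
      have h2 := (e.2.2.choose_spec.2 z).symm.trans (hz z)
      exact smul_left_injective F u.ne_zero (add_left_cancel h2)

end Frame

end CfsgLib.Singer3
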