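import Cfsg.Agent.Lib.Singer3.Trans

/-! An overgroup of the torus with one elation has every transvection. -/

set_option autoImplicit false
set_option linter.style.haveILetI false
set_option linter.unusedSectionVars false

namespace CfsgLib.Singer3

open Module

theorem transitive_of_fixers {H X : Type*} [Group H] [Finite H] [Finite X] [MulAction H X] {p : ℕ} [hp : Fact p.Prime]
    (h : ∀ x : X, ∃ g : H, g ^ p = 1 ∧ ∀ y : X, g • y = y ↔ y = x) (x y : X) : ∃ g : H, g • x = y := by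
  classical
  by_contra hno
  have hy : y ∉ MulAction.orbit H x := fun hy => hno (MulAction.mem_orbit_iff.1 hy)
  let O := MulAction.orbit H x
  have hcount : ∀ g : H, g ^ p = 1 → Nat.card O ≡ Nat.card {o : O // g • o = o} [MOD p] := by
    intro g hg
    have hP : IsPGroup p (Subgroup.zpowers g) := by
      obtain ⟨k, -, hk⟩ := (Nat.dvd_prime_pow hp.out).1 (orderOf_dvd_of_pow_eq_one (hg : g ^ p = 1) |>.trans
        (dvd_of_eq (pow_one p).symm))
      exact IsPGroup.of_card (n := k) (by rw [Nat.card_zpowers, hk])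
    refine (hP.card_modEq_card_fixedPoints O).trans ?_
    rw [Nat.card_congr (Equiv.subtypeEquivRight (p := fun o => o ∈ MulAction.fixedPoints (Subgroup.zpowers g) O)
      (q := fun o : O => g • o = o) fun o => ?_)]
    constructor
    · exact fun ho => ho ⟨g, Subgroup.mem_zpowers g⟩
    · rintro ho ⟨k, hk⟩
      obtain ⟨i, rfl⟩ := hk
      have : g ^ i ∈ MulAction.stabilizer H o := Subgroup.zpow_mem _ (MulAction.mem_stabilizer_iff.2 ho) i
      exact this
  obtain ⟨g, hg, hgf⟩ := h x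
  obtain ⟨g', hg', hgf'⟩ := h y
  have h1 : Nat.card {o : O // g • o = o} = 1 := by
    haveI : Unique {o : O // g • o = o} :=
      { default := ⟨⟨x, MulAction.mem_orbit_self x⟩, Subtype.ext ((hgf x).2 rfl)⟩
        uniq := fun o => Subtype.ext (Subtype.ext ((hgf _).1 (congrArg Subtype.val o.2))) }
    exact Nat.card_unique
  have h0 : Nat.card {o : O // g' • o = o} = 0 := by
    haveI : IsEmpty {o : O // g' • o = o} := ⟨fun o => hy ((hgf' _).1 (congrArg Subtype.val o.2) ▸ o.1.2)⟩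
    exact Nat.card_of_isEmpty
  have := (hcount g hg).symm.trans (hcount g' hg')
  rw [h1, h0, Nat.modEq_zero_iff_dvd] at this
  exact hp.out.not_dvd_one this

variable {F K : Type*} [Field F] [Field K] [Algebra F K] [Finite K] (Φ : Frame F K) {G : Subgroup (K ≃ₗ[F] K)}

namespace Frame

variable {Φ}

theorem tv_pow {g : K ≃ₗ[F] K} {u k : K} (h0 : Φ.θ (k * u) = 0) (hg : ∀ z, g z = z + Φ.θ (k * z) • u) (n : ℕ) (z : K) :
    (g ^ n) z = z + ((n : F) * Φ.θ (k * z)) • u := by
  induction n with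
  | zero => simp
  | succ n ih =>
    rw [pow_succ', LinearEquiv.mul_apply, ih, hg, mul_add, map_add, mul_smul_comm, map_smul, h0, smul_zero, add_zero,
      add_assoc, ← add_smul, Nat.cast_succ, add_mul, one_mul]

theorem exists_ne_on {x l : Pt F K} (hinc : l * x ∈ Φ.D) : ∃ y, y ≠ x ∧ l * y ∈ Φ.D := by
  haveI : Nontrivial Φ.D := Finite.one_lt_card_iff_nontrivial.1 (by
    rw [Φ.pds.card]
    haveI : Finite F := finite_base_field F K
    have : 0 < Nat.card F := Nat.card_pos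
    omega)
  obtain ⟨⟨d, hd⟩, hne⟩ := exists_ne (⟨l * x, hinc⟩ : Φ.D)
  refine ⟨l⁻¹ * d, fun e => hne (Subtype.ext ?_), by rwa [mul_inv_cancel_left]⟩
  show d = l * x
  rw [← e, mul_inv_cancel_left]

theorem all_flags (Φ : Frame F K) (hG : Over G) (h4 : Nat.card F ≠ 4) {x₀ l₀ : Pt F K} (hfl : Φ.Flag G x₀ l₀)
    {x l : Pt F K} (hinc : l * x ∈ Φ.D) : Φ.Flag G x l := by
  obtain ⟨g, hg, rfl⟩ := trans_of_flag Φ hG h4 hfl x₀ x
  obtain ⟨_, ⟨h, hh, rfl⟩, hl⟩ := trans_of_flag Φ (over_dual hG) h4 (flag_dual hfl) l₀ l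
  have h2 := flag_conj hfl hh
  rw [hl] at h2
  exact flag_closure (flag_conj hfl hg) h2 hinc

theorem pencil_trans (Φ : Frame F K) (hG : Over G) (h4 : Nat.card F ≠ 4) {x₀ l₀ : Pt F K} (hfl : Φ.Flag G x₀ l₀)
    {x l l' : Pt F K} (hl : l * x ∈ Φ.D) (hl' : l' * x ∈ Φ.D) :
    ∃ g ∈ G, perm g x = x ∧ perm (Φ.dual g) l = l' := by
  obtain ⟨p, hp⟩ := CharP.exists K
  haveI : Fintype K := Fintype.ofFinite K
  haveI : Fact p.Prime := ⟨CharP.char_is_prime K p⟩
  let St : Subgroup (K ≃ₗ[F] K) := G ⊓ (MulAction.stabilizer (Equiv.Perm (Pt F K)) x).comap perm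
  let X := {m : Pt F K // m * x ∈ Φ.D}
  have hinv : ∀ g ∈ St, ∀ m : X, perm (Φ.dual g) m.1 * x ∈ Φ.D := by
    intro g hg m
    have hgx : perm g x = x := hg.2
    have h := (Φ.inc_move g m.1 x).2 m.2
    rwa [hgx] at h
  letI act : MulAction St X :=
    { smul := fun g m => ⟨perm (Φ.dual g.1) m.1, hinv g.1 g.2 m⟩
      one_smul := fun m => Subtype.ext (by show perm (Φ.dual 1) m.1 = m.1; rw [map_one, map_one]; rfl)
      mul_smul := fun g h m => Subtype.ext (by show perm (Φ.dual (g.1 * h.1)) m.1 = _; rw [map_mul, map_mul]; rfl) }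
  haveI := finite_aut (F := F) (K := K)
  haveI : Finite X := Subtype.finite
  suffices hfix : ∀ m : X, ∃ g : St, g ^ p = 1 ∧ ∀ o : X, g • o = o ↔ o = m by
    obtain ⟨⟨g, hg, hgx⟩, he⟩ := transitive_of_fixers hfix ⟨l, hl⟩ ⟨l', hl'⟩
    exact ⟨g, hg, hgx, congrArg Subtype.val he⟩
  rintro ⟨m, hm⟩
  obtain ⟨y, hyx, hy⟩ := exists_ne_on (Φ := Φ) hm
  obtain ⟨v, k, rfl, rfl, h0, t, ht, htz⟩ := all_flags Φ hG h4 hfl hy
  obtain ⟨w, rfl⟩ := QuotientGroup.mk_surjective x
  have hkw : Φ.θ ((k : K) * w) = 0 := Φ.inc_iff.1 hm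
  have htx : perm t (w : Pt F K) = (w : Pt F K) := perm_eq_iff.2 ⟨1, by rw [htz, hkw, zero_smul, add_zero, one_smul]⟩
  refine ⟨⟨t, ht, htx⟩, Subtype.ext (LinearEquiv.ext fun z => ?_), fun o => ?_⟩
  · show (t ^ p) z = z
    rw [tv_pow h0 htz]
    haveI : CharP F p := (algebraMap F K).charP (algebraMap F K).injective p
    rw [CharP.cast_eq_zero, zero_mul, zero_smul, add_zero]
  obtain ⟨o, ho⟩ := o
  obtain ⟨r, rfl⟩ := QuotientGroup.mk_surjective o
  have hd : Φ.dual t r = (r : K) - Φ.θ ((r : K) * v) • (k : K) := by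
    refine Φ.eq_dual fun z => ?_
    simp only [htz, sub_mul, mul_add, mul_smul_comm, smul_mul_assoc, map_sub, map_add, map_smul, h0, smul_eq_mul]
    ring
  show (⟨perm (Φ.dual t) (r : Pt F K), _⟩ : X) = _ ↔ _
  rw [Subtype.ext_iff, Subtype.ext_iff]
  show perm (Φ.dual t) (r : Pt F K) = (r : Pt F K) ↔ (r : Pt F K) = (k : Pt F K)
  constructor
  · intro hfix
    by_contra hne
    obtain ⟨a, ha⟩ := perm_eq_iff.1 hfix
    have hrv : Φ.θ ((r : K) * v) = 0 := by
      by_contra hrv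
      refine hne (pt_eq.2 ⟨(Φ.θ ((r : K) * v))⁻¹ * (1 - a), ?_⟩)
      rw [mul_smul, sub_smul, one_smul, ← ha, hd, sub_sub_cancel, inv_smul_smul₀ hrv]
    exact hyx (inc_unique (Φ := Φ) (x := (v : Pt F K)) (y := (w : Pt F K)) (Φ.inc_iff.2 hrv) ho hy hm hne)
  · intro he
    rw [perm_eq_iff]
    obtain ⟨a, ha⟩ := pt_eq.1 he.symm
    refine ⟨1, ?_⟩
    rw [hd, ha, smul_mul_assoc, map_smul, h0, smul_zero, zero_smul, sub_zero, one_smul]

theorem funcOn_card_le (Φ : Frame F K) (G : Subgroup (K ≃ₗ[F] K)) (u m : K) : Nat.card (Φ.funcOn G u m) ≤ Nat.card F := by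
  haveI : Finite F := finite_base_field F K
  refine le_trans (Nat.card_le_card_of_injective (fun a => (mem_funcOn.1 a.2).2.choose) fun a b h => Subtype.ext ?_) le_rfl
  rw [← (mem_funcOn.1 a.2).2.choose_spec, ← (mem_funcOn.1 b.2).2.choose_spec]
  exact congrArg (fun c : F => c • m) h

theorem func_full (Φ : Frame F K) (hG : Over G) (h4 : Nat.card F ≠ 4) {x₀ l₀ : Pt F K} (hfl : Φ.Flag G x₀ l₀)
    (u : Kˣ) (k : K) (hk : Φ.θ (k * u) = 0) : Φ.Mem G u k := by
  classical
  haveI : Finite F := finite_base_field F K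
  obtain ⟨p, hp⟩ := CharP.exists K
  haveI : Fintype K := Fintype.ofFinite K
  haveI : Fact p.Prime := ⟨CharP.char_is_prime K p⟩
  haveI : CharP F p := (algebraMap F K).charP (algebraMap F K).injective p
  let L := {m : Pt F K // m * (u : Pt F K) ∈ Φ.D}
  have hL : Nat.card L = Nat.card F + 1 := by
    rw [← Φ.pds.card]
    exact Nat.card_congr
      { toFun := fun m => ⟨m.1 * (u : Pt F K), m.2⟩
        invFun := fun d => ⟨d.1 * (u : Pt F K)⁻¹, by rw [inv_mul_cancel_right]; exact d.2⟩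
        left_inv := fun m => Subtype.ext (mul_inv_cancel_right _ _)
        right_inv := fun d => Subtype.ext (inv_mul_cancel_right _ _) }
  choose r hr using fun m : L => QuotientGroup.mk_surjective m.1
  have hle : ∀ m m' : L, Nat.card (Φ.funcOn G (u : K) (r m : K)) ≤ Nat.card (Φ.funcOn G (u : K) (r m' : K)) := by
    intro m m'
    obtain ⟨g, hg, hgx, hgl⟩ := pencil_trans Φ hG h4 hfl m.2 m'.2
    obtain ⟨a, ha⟩ := perm_eq_iff.1 hgx
    have ha0 : a ≠ 0 := fun h0 => u.ne_zero (g.map_eq_zero_iff.1 (by rw [ha, h0, zero_smul]))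
    rw [← hr m, ← hr m'] at hgl
    obtain ⟨b, hb⟩ := perm_eq_iff.1 hgl
    refine Nat.card_le_card_of_injective (fun v => ⟨a • Φ.dual g v.1, ?_⟩) ?_
    · obtain ⟨hv, c, hc⟩ := mem_funcOn.1 v.2
      refine mem_funcOn.2 ⟨?_, a * (c * b), by rw [← hc, map_smul, hb, mul_smul, mul_smul]⟩
      have := mem_conj hv hg
      rw [ha] at this
      simpa [smul_smul, inv_mul_cancel₀ ha0] using mem_smul_left this (inv_ne_zero ha0)
    · intro v v' h
      exact Subtype.ext ((Φ.dual g).injective (smul_right_injective K ha0 (congrArg Subtype.val h)))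
  haveI : Nonempty L := Finite.card_pos_iff.1 (by rw [hL]; omega)
  obtain ⟨m₀⟩ := ‹Nonempty L›
  set h := Nat.card (Φ.funcOn G (u : K) (r m₀ : K)) with hh
  have h2 : 2 ≤ h := two_le_funcOn (all_flags Φ hG h4 hfl (by rw [hr]; exact m₀.2))
  have hhq : h ≤ Nat.card F := funcOn_card_le Φ G _ _
  have hT : Nat.card (Φ.func G (u : K)) = (Nat.card F + 1) * (h - 1) + 1 := by
    rw [← Nat.card_congr (Equiv.optionSubtypeNe (0 : Φ.func G (u : K))), Finite.card_option]
    congr 1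
    let e : (Σ m : L, {v : Φ.funcOn G (u : K) (r m : K) // v ≠ 0}) → {v : Φ.func G (u : K) // v ≠ 0} :=
      fun s => ⟨⟨s.2.1.1, (mem_funcOn.1 s.2.1.2).1⟩, fun e => s.2.2 (Subtype.ext (congrArg (fun z : Φ.func G (u : K) => (z : K)) e))⟩
    have he : Function.Bijective e := by
      constructor
      · rintro ⟨m, ⟨v, hv⟩, hv0⟩ ⟨m', ⟨v', hv'⟩, hv0'⟩ h
        obtain rfl : v = v' := congrArg (fun z => ((z.1 : Φ.func G (u : K)) : K)) h
        obtain ⟨-, c, hc⟩ := mem_funcOn.1 hv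
        obtain ⟨-, c', hc'⟩ := mem_funcOn.1 hv'
        have hvne : v ≠ 0 := fun e => hv0 (Subtype.ext e)
        have : m = m' := by
          refine Subtype.ext ?_
          rw [← hr m, ← hr m', pt_eq]
          refine ⟨c'⁻¹ * c, ?_⟩
          rw [mul_smul, hc, ← hc', inv_smul_smul₀]
          intro h0; exact hvne (by rw [← hc', h0, zero_smul])
        subst this
        rfl
      · rintro ⟨⟨v, hv⟩, hv0⟩
        obtain ⟨w, rfl⟩ := exists_pt (fun e : v = 0 => hv0 (Subtype.ext e))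
        let m : L := ⟨(w : Pt F K), Φ.inc_iff.2 hv.1⟩
        obtain ⟨c, hc⟩ := pt_eq.1 (hr m)
        exact ⟨⟨m, ⟨(w : K), mem_funcOn.2 ⟨hv, c, hc.symm⟩⟩, fun e => w.ne_zero (congrArg Subtype.val e)⟩, rfl⟩
    haveI : Fintype L := Fintype.ofFinite L
    rw [← Nat.card_congr (Equiv.ofBijective e he), Nat.card_sigma]
    have hone : ∀ m : L, Nat.card {v : Φ.funcOn G (u : K) (r m : K) // v ≠ 0} = h - 1 := by
      intro m
      have h1 : Nat.card {v : Φ.funcOn G (u : K) (r m : K) // v ≠ 0} + 1 = Nat.card (Φ.funcOn G (u : K) (r m : K)) := by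
        rw [← Finite.card_option, Nat.card_congr (Equiv.optionSubtypeNe (0 : Φ.funcOn G (u : K) (r m : K)))]
      have := le_antisymm (hle m m₀) (hle m₀ m)
      omega
    rw [Finset.sum_congr rfl fun m _ => hone m, Finset.sum_const, Finset.card_univ, ← Nat.card_eq_fintype_card, hL, smul_eq_mul]
  obtain ⟨a, ha⟩ := exists_card_pow (p := p) (Φ.func G (u : K))
  haveI : Fintype F := Fintype.ofFinite F
  obtain ⟨n, -, hn⟩ := FiniteField.card F p
  rw [← Nat.card_eq_fintype_card] at hn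
  have hhq' : h = Nat.card F := by
    have hgt : p ^ (n : ℕ) < p ^ a := by rw [← ha, hT, ← hn]; nlinarith [Nat.sub_add_cancel (by omega : 1 ≤ h)]
    have hdvd : Nat.card F ∣ h := by
      have h1 : Nat.card F ∣ Nat.card (Φ.func G (u : K)) := by
        rw [ha, hn]; exact pow_dvd_pow p ((Nat.pow_lt_pow_iff_right (Fact.out : p.Prime).one_lt).1 hgt).le
      rw [hT, show (Nat.card F + 1) * (h - 1) + 1 = Nat.card F * (h - 1) + h by
        rw [add_mul, one_mul, add_assoc, Nat.sub_add_cancel (by omega)]] at h1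
      exact (Nat.dvd_add_right (dvd_mul_right _ _)).1 h1
    exact le_antisymm hhq (Nat.le_of_dvd (by omega) hdvd)
  have hker : Nat.card {z : K // Φ.θ (z * u) = 0} = Nat.card F ^ 2 := by
    rw [← Φ.finrank_ker, ← Module.natCard_eq_pow_finrank (K := F) (V := LinearMap.ker Φ.θ)]
    exact Nat.card_congr
      { toFun := fun z => ⟨z.1 * u, z.2⟩
        invFun := fun z => ⟨z.1 * (u⁻¹ : Kˣ), by rw [Units.inv_mul_cancel_right]; exact z.2⟩
        left_inv := fun z => Subtype.ext (Units.mul_inv_cancel_right _ _)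
        right_inv := fun z => Subtype.ext (Units.inv_mul_cancel_right _ _) }
  let emb : Φ.func G (u : K) → {z : K // Φ.θ (z * u) = 0} := fun v => ⟨v.1, v.2.1⟩
  have hsurj : Function.Surjective emb := by
    refine (Nat.bijective_iff_injective_and_card emb).2 ⟨fun a b h => Subtype.ext (congrArg (fun z : {z : K // Φ.θ (z * u) = 0} => z.1) h), ?_⟩ |>.2
    rw [hker, hT, hhq']
    have hq2 : 2 ≤ Nat.card F := Finite.one_lt_card
    obtain ⟨j, hj⟩ : ∃ j, Nat.card F = j + 1 := ⟨Nat.card F - 1, by omega⟩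
    rw [hj, show j + 1 - 1 = j by omega]; ring
  obtain ⟨v, hv⟩ := hsurj ⟨k, hk⟩
  have : v.1 = k := congrArg Subtype.val hv
  exact this ▸ v.2

end Frame

end CfsgLib.Singer3
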