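import Cfsg.Agent.Lib.Singer3.Elation

/-! An overgroup of the torus with an elation is transitive on points. -/

set_option autoImplicit false
set_option linter.style.haveILetI false
set_option linter.unusedSectionVars false

namespace CfsgLib.Singer3

open Module

variable {F K : Type*} [Field F] [Field K] [Algebra F K] [Finite K] (Φ : Frame F K) {G : Subgroup (K ≃ₗ[F] K)}

namespace Frame

variable {Φ}

theorem card_inv_class (m : Pt F K) (c : Pt F K ⧸ torus F K) :
    Nat.card {y : Pt F K // m * y ∈ Φ.D ∧ (y : Pt F K ⧸ torus F K) = c} =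
      cnt Φ.D (torus F K) ((m : Pt F K ⧸ torus F K) * c) := by
  refine Nat.card_eq_of_bijective (fun y => ⟨m * y.1, y.2.1, by rw [QuotientGroup.mk_mul, y.2.2]⟩) ⟨?_, ?_⟩
  · intro y y' h
    exact Subtype.ext (mul_left_cancel (congrArg Subtype.val h))
  · rintro ⟨d, hd, hdc⟩
    refine ⟨⟨m⁻¹ * d, by rwa [mul_inv_cancel_left], ?_⟩, Subtype.ext (mul_inv_cancel_left m d)⟩
    rw [QuotientGroup.mk_mul, QuotientGroup.mk_inv, hdc, inv_mul_cancel_left]

theorem card_line_ne (m x : Pt F K) (c : Pt F K ⧸ torus F K) (hm : m * x ∈ Φ.D) :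
    ((x : Pt F K ⧸ torus F K) = c →
      Nat.card {y : Pt F K // m * y ∈ Φ.D ∧ (y : Pt F K ⧸ torus F K) = c ∧ y ≠ x} + 1 =
        cnt Φ.D (torus F K) ((m : Pt F K ⧸ torus F K) * c)) ∧
    ((x : Pt F K ⧸ torus F K) ≠ c →
      Nat.card {y : Pt F K // m * y ∈ Φ.D ∧ (y : Pt F K ⧸ torus F K) = c ∧ y ≠ x} =
        cnt Φ.D (torus F K) ((m : Pt F K ⧸ torus F K) * c)) := by
  classical
  constructor
  · intro hx
    rw [← card_inv_class (Φ := Φ) m c,
      ← Nat.card_congr (Equiv.optionSubtypeNe (⟨x, hm, hx⟩ : {y : Pt F K // m * y ∈ Φ.D ∧ (y : Pt F K ⧸ torus F K) = c})),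
      Finite.card_option]
    congr 1
    exact Nat.card_congr
      { toFun := fun y => ⟨⟨y.1, y.2.1, y.2.2.1⟩, fun h => y.2.2.2 (congrArg Subtype.val h)⟩
        invFun := fun y => ⟨y.1.1, y.1.2.1, y.1.2.2, fun h => y.2 (Subtype.ext h)⟩
        left_inv := fun _ => rfl
        right_inv := fun _ => rfl }
  · intro hx
    rw [← card_inv_class (Φ := Φ) m c]
    exact Nat.card_congr (Equiv.subtypeEquivRight fun y =>
      ⟨fun h => ⟨h.1, h.2.1⟩, fun h => ⟨h.1, h.2, fun e => hx (e ▸ h.2)⟩⟩)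

/-- the number of lines of a class through a point -/
theorem exists_line_ne {x l : Pt F K} (j : Pt F K ⧸ torus F K)
    (h2 : 2 ≤ cnt Φ.D (torus F K) (j * (x : Pt F K ⧸ torus F K))) :
    ∃ m : Pt F K, (m : Pt F K ⧸ torus F K) = j ∧ m * x ∈ Φ.D ∧ m ≠ l := by
  by_contra h
  simp only [not_exists, not_and, not_not] at h
  rw [← Nat.lt_iff_add_one_le] at h2
  haveI : Nontrivial {d : Pt F K // d ∈ Φ.D ∧ (d : Pt F K ⧸ torus F K) = j * (x : Pt F K ⧸ torus F K)} :=
    Finite.one_lt_card_iff_nontrivial.1 h2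
  obtain ⟨⟨d, hd, hdc⟩, ⟨d', hd', hdc'⟩, hne⟩ :=
    exists_pair_ne {d : Pt F K // d ∈ Φ.D ∧ (d : Pt F K ⧸ torus F K) = j * (x : Pt F K ⧸ torus F K)}
  have key : ∀ d : Pt F K, d ∈ Φ.D → (d : Pt F K ⧸ torus F K) = j * (x : Pt F K ⧸ torus F K) → d * x⁻¹ = l := by
    intro d hd hdc
    refine h (d * x⁻¹) ?_ ?_
    · rw [QuotientGroup.mk_mul, QuotientGroup.mk_inv, hdc, mul_inv_cancel_right]
    · rwa [inv_mul_cancel_right]
  exact hne (Subtype.ext (mul_right_cancel ((key d hd hdc).trans (key d' hd' hdc').symm)))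

theorem funcOn_eq_bot {u m : Kˣ} (h : ¬ Φ.Flag G (u : Pt F K) (m : Pt F K)) : Nat.card (Φ.funcOn G u m) = 1 := by
  haveI : Subsingleton (Φ.funcOn G (u : K) (m : K)) := by
    refine ⟨fun a b => ?_⟩
    suffices h0 : ∀ k ∈ Φ.funcOn G (u : K) (m : K), k = 0 by exact Subtype.ext ((h0 _ a.2).trans (h0 _ b.2).symm)
    intro k hk
    obtain ⟨hk, c, rfl⟩ := mem_funcOn.1 hk
    by_contra hne
    exact h ⟨u, Units.mk0 _ hne, rfl, (pt_eq.2 ⟨c, rfl⟩).symm, hk⟩
  exact Nat.card_unique

theorem two_le_funcOn {u m : Kˣ} (h : Φ.Flag G (u : Pt F K) (m : Pt F K)) : 2 ≤ Nat.card (Φ.funcOn G u m) := by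
  obtain ⟨k, hk, hmem⟩ := flag_rep h rfl
  obtain ⟨c, hc⟩ := pt_eq.1 hk.symm
  haveI : Nontrivial (Φ.funcOn G (u : K) (m : K)) :=
    ⟨⟨0, zero_mem _⟩, ⟨(k : K), mem_funcOn.2 ⟨hmem, c, hc.symm⟩⟩, fun e => k.ne_zero (congrArg Subtype.val e).symm⟩
  exact Finite.one_lt_card

theorem funcOn_inf {u m m' : Kˣ} (hne : (m : Pt F K) ≠ (m' : Pt F K)) :
    Nat.card (Φ.funcOn G u m) * Nat.card (Φ.funcOn G u m') ≤ Nat.card (Φ.func G u) := by
  rw [← Nat.card_prod]
  refine Nat.card_le_card_of_injective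
    (fun a => (⟨(a.1 : K) + a.2, add_mem (mem_funcOn.1 a.1.2).1 (mem_funcOn.1 a.2.2).1⟩ : Φ.func G u)) ?_
  rintro ⟨⟨a, ha⟩, ⟨b, hb⟩⟩ ⟨⟨a', ha'⟩, ⟨b', hb'⟩⟩ h
  have h' : a + b = a' + b' := congrArg Subtype.val h
  obtain ⟨-, c, hc⟩ := mem_funcOn.1 (sub_mem ha ha')
  obtain ⟨-, c', hc'⟩ := mem_funcOn.1 (sub_mem hb' hb)
  have hab : a - a' = b' - b := by linear_combination h'
  have hc0 : c = 0 := by
    by_contra hc0
    refine hne (pt_eq.2 ?_)
    by_cases hc'0 : c' = 0
    · rw [hc'0, zero_smul] at hc'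
      rw [← hc', ← hc] at hab
      exact absurd hab (smul_ne_zero hc0 m.ne_zero)
    · exact ⟨c'⁻¹ * c, by rw [mul_smul, hc, hab, ← hc', inv_smul_smul₀ hc'0]⟩
  rw [hc0, zero_smul, eq_comm, sub_eq_zero] at hc
  subst hc
  have : b = b' := by linear_combination h'
  subst this
  rfl

variable (hG : Over G) (h3 : (torus F K).index = 3) (h4 : Nat.card F ≠ 4)

/-- a line through a centre, off an axis: a congruence modulo `p` -/
theorem dvd_p {p : ℕ} [Fact p.Prime] [CharP K p] {c : Pt F K ⧸ torus F K} (hc : InvClass G c) {x l m : Pt F K}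
    (hfl : Φ.Flag G x l) (hm : m * x ∈ Φ.D) (hne : m ≠ l) :
    p ∣ Nat.card {y : Pt F K // m * y ∈ Φ.D ∧ (y : Pt F K ⧸ torus F K) = c ∧ y ≠ x} := by
  obtain ⟨u, k, rfl, rfl, hmem⟩ := hfl
  induction m using QuotientGroup.induction_on with
  | H m =>
    have h := dvd_line hc u m (Φ.inc_iff.1 hm)
    obtain ⟨a, ha⟩ := exists_card_pow (p := p) (Φ.func G (u : K))
    obtain ⟨b, hb⟩ := exists_card_pow (p := p) (Φ.funcOn G (u : K) (m : K))
    have hlt : Nat.card (Φ.funcOn G (u : K) (m : K)) < Nat.card (Φ.func G (u : K)) := by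
      have h2 := funcOn_inf (Φ := Φ) (G := G) (u := u) hne
      have h3 := two_le_funcOn (Φ := Φ) (G := G) ⟨u, k, rfl, rfl, hmem⟩
      have : 0 < Nat.card (Φ.funcOn G (u : K) (m : K)) := Nat.card_pos
      nlinarith
    rw [ha, hb] at hlt
    have hba : b < a := (Nat.pow_lt_pow_iff_right (Fact.out : p.Prime).one_lt).1 hlt
    rw [ha, hb] at h
    obtain ⟨r, rfl⟩ : ∃ r, a = b + 1 + r := ⟨a - b - 1, by omega⟩
    rw [pow_add, pow_succ, mul_assoc, mul_comm (Nat.card _) (p ^ b)] at h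
    exact dvd_of_mul_right_dvd (Nat.dvd_of_mul_dvd_mul_left (pow_pos (Fact.out : p.Prime).pos b) h)

theorem q_cases (Φ : Frame F K) (h3 : (torus F K).index = 3) (h4 : Nat.card F ≠ 4) :
    Nat.card F % 3 = 1 ∧ 7 ≤ Nat.card F ∧ (Nat.card F = 7 ∨ 12 ≤ Nat.card F) := by
  rcases torus_cases (F := F) (K := K) Φ.dim h4 with h | ⟨-, h7, hm⟩
  · rw [h, Subgroup.index_top] at h3; omega
  · refine ⟨hm, h7, ?_⟩
    by_contra hc
    have h10 : Nat.card F = 10 := by omega
    haveI : Finite F := finite_base_field F K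
    haveI : Fintype F := Fintype.ofFinite F
    obtain ⟨p, hp⟩ := CharP.exists F
    obtain ⟨n, hpp, hn⟩ := FiniteField.card F p
    rw [← Nat.card_eq_fintype_card, h10] at hn
    have h2 : p ∣ 10 := hn ▸ dvd_pow_self p n.ne_zero
    have h2p : p = 2 ∨ p = 5 := by
      have := Nat.le_of_dvd (by norm_num) h2
      have h22 := hpp.two_le
      interval_cases p <;> first | omega | (exfalso; norm_num at hpp) | (exfalso; norm_num at h2)
    rcases h2p with rfl | rfl
    · have : (5 : ℕ) ∣ 2 ^ (n : ℕ) := by rw [← hn]; norm_num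
      have := (Nat.prime_dvd_prime_iff_eq (by norm_num) Nat.prime_two).1 ((by norm_num : Nat.Prime 5).dvd_of_dvd_pow this)
      omega
    · have : (2 : ℕ) ∣ 5 ^ (n : ℕ) := by rw [← hn]; norm_num
      have := (Nat.prime_dvd_prime_iff_eq Nat.prime_two (by norm_num)).1 (Nat.prime_two.dvd_of_dvd_pow this)
      omega

include h3 h4 in
/-- with an invariant class, the characteristic is two and every centre is in that class -/
theorem centre_class {p : ℕ} [Fact p.Prime] [CharP K p] (hpq : p ∣ Nat.card F) {c : Pt F K ⧸ torus F K}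
    (hc : InvClass G c) {x l : Pt F K} (hfl : Φ.Flag G x l) :
    p = 2 ∧ 12 ≤ Nat.card F ∧ (x : Pt F K ⧸ torus F K) = c ∧ ∀ j, cnt Φ.D (torus F K) j % 2 = 1 := by
  classical
  obtain ⟨hmod, h7, hcase⟩ := q_cases Φ h3 h4
  set e := if (x : Pt F K ⧸ torus F K) = c then 1 else 0 with he
  have key : ∀ j, 2 ≤ (cnt Φ.D (torus F K)) (j * (x : Pt F K ⧸ torus F K)) → (cnt Φ.D (torus F K)) (j * c) % p = e % p := by
    intro j hj
    obtain ⟨m, rfl, hm, hml⟩ := exists_line_ne (Φ := Φ) (l := l) j hj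
    have hd := dvd_p (p := p) hc hfl hm hml
    by_cases hx : (x : Pt F K ⧸ torus F K) = c
    · have := (card_line_ne (Φ := Φ) m x c hm).1 hx
      rw [he, if_pos hx, ← this, Nat.add_mod, Nat.dvd_iff_mod_eq_zero.1 hd, zero_add, Nat.mod_mod]
    · have := (card_line_ne (Φ := Φ) m x c hm).2 hx
      rw [he, if_neg hx, ← this, Nat.dvd_iff_mod_eq_zero.1 hd, Nat.zero_mod]
  have he1 : e ≤ 1 := by rw [he]; split <;> omega
  rcases hcase with h7' | h12
  · exfalso
    have hp7 : p = 7 := (Nat.prime_dvd_prime_iff_eq Fact.out (by norm_num)).1 (h7' ▸ hpq)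
    subst hp7
    have vals : ∀ j, (cnt Φ.D (torus F K)) j = 1 ∨ (cnt Φ.D (torus F K)) j = 3 ∨ (cnt Φ.D (torus F K)) j = 4 := by
      intro j
      obtain ⟨b, d, -, -, -, -, e1, e2⟩ := triple Φ.pds h3 j
      rw [h7'] at e1 e2
      obtain ⟨r, hr⟩ : ∃ r, r = 8 - (cnt Φ.D (torus F K)) j - cnt Φ.D (torus F K) b := ⟨_, rfl⟩
      have hd : cnt Φ.D (torus F K) d = r := by omega
      rw [hd] at e2
      have hj8 : (cnt Φ.D (torus F K)) j ≤ 8 := by omega
      have hb8 : cnt Φ.D (torus F K) b ≤ 8 := by omega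
      generalize (cnt Φ.D (torus F K)) j = A at *
      generalize cnt Φ.D (torus F K) b = B at *
      interval_cases A <;> first | omega | (interval_cases B <;> subst hr <;> omega)
    obtain ⟨b, d, hab, had, hbd, hall, e1, e2⟩ := triple Φ.pds h3 ((1 : Pt F K) : Pt F K ⧸ torus F K)
    rw [h7'] at e1 e2
    -- two classes of lines with at least two lines through the centre
    have two : ∀ i i' : Pt F K ⧸ torus F K, i ≠ i' → (cnt Φ.D (torus F K)) i = 1 → (cnt Φ.D (torus F K)) i' = 1 → False := by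
      intro i i' hii h1 h1'
      obtain ⟨b', d', hab', had', -, hall', e1', e2'⟩ := triple Φ.pds h3 i
      rw [h7'] at e1' e2'
      change (cnt Φ.D (torus F K)) i + (cnt Φ.D (torus F K)) b' + (cnt Φ.D (torus F K)) d' = _ at e1'
      change 3 * ((cnt Φ.D (torus F K)) i ^ 2 + (cnt Φ.D (torus F K)) b' ^ 2 + (cnt Φ.D (torus F K)) d' ^ 2) = _ at e2'
      rcases hall' i' with e | e | e
      · exact hii e.symm
      · rw [e] at h1'
        rw [h1, h1'] at e1' e2'
        have : (cnt Φ.D (torus F K)) d' = 6 := by omega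
        rw [this] at e2'; omega
      · rw [e] at h1'
        rw [h1, h1'] at e1' e2'
        have : (cnt Φ.D (torus F K)) b' = 6 := by omega
        rw [this] at e2'; omega
    have good : ∀ i, 2 ≤ (cnt Φ.D (torus F K)) i → (cnt Φ.D (torus F K)) (i * (x : Pt F K ⧸ torus F K)⁻¹ * c) = 1 := by
      intro i hi
      have := key (i * (x : Pt F K ⧸ torus F K)⁻¹) (by rwa [inv_mul_cancel_right])
      rcases vals (i * (x : Pt F K ⧸ torus F K)⁻¹ * c) with h | h | h <;> omega
    have pair : ∀ i i' : Pt F K ⧸ torus F K, i ≠ i' → 2 ≤ (cnt Φ.D (torus F K)) i → 2 ≤ (cnt Φ.D (torus F K)) i' → False := fun i i' hii hi hi' =>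
      two _ _ (fun h => hii (mul_right_cancel (mul_right_cancel h))) (good i hi) (good i' hi')
    rcases vals ((1 : Pt F K) : Pt F K ⧸ torus F K) with h | h | h
    · have hb : 2 ≤ (cnt Φ.D (torus F K)) b := by
        rcases vals b with h' | h' | h'
        · exact absurd h' fun h' => two _ _ hab h h'
        · omega
        · omega
      have hd : 2 ≤ (cnt Φ.D (torus F K)) d := by
        rcases vals d with h' | h' | h'
        · exact absurd h' fun h' => two _ _ had h h'
        · omega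
        · omega
      exact pair b d hbd hb hd
    all_goals
      rcases vals b with h' | h' | h'
      · rcases vals d with h'' | h'' | h''
        · exact two b d hbd h' h''
        · exact pair _ d had (by omega) (by omega)
        · exact pair _ d had (by omega) (by omega)
      · exact pair _ b hab (by omega) (by omega)
      · exact pair _ b hab (by omega) (by omega)
  · have all : ∀ i, (cnt Φ.D (torus F K)) i % p = e % p := by
      intro i
      have := key (i * c⁻¹) (by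
        obtain ⟨b, d, -, -, -, -, e1, e2⟩ := triple Φ.pds h3 (i * c⁻¹ * (x : Pt F K ⧸ torus F K))
        exact le_trans (by norm_num) (ge_three h12 e1 e2))
      rwa [inv_mul_cancel_right] at this
    obtain ⟨b, d, -, -, -, -, e1, -⟩ := triple Φ.pds h3 c
    have hp := (Fact.out : p.Prime)
    have h1 : (3 * e) % p = 1 % p := by
      have hsum : ((cnt Φ.D (torus F K)) c + (cnt Φ.D (torus F K)) b + (cnt Φ.D (torus F K)) d) % p = (Nat.card F + 1) % p := congrArg (· % p) e1
      have hm : cnt Φ.D (torus F K) c + cnt Φ.D (torus F K) b + cnt Φ.D (torus F K) d ≡ e + e + e [MOD p] :=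
        Nat.ModEq.add (Nat.ModEq.add (all c) (all b)) (all d)
      have hq1 : Nat.card F + 1 ≡ 1 [MOD p] := by
        simpa using Nat.ModEq.add_right 1 (Nat.modEq_zero_iff_dvd.2 hpq)
      rw [show 3 * e = e + e + e by ring]
      exact hm.symm.trans ((show _ ≡ _ [MOD p] from hsum).trans hq1)
    rw [Nat.mod_eq_of_lt hp.one_lt] at h1
    have hx1 : (x : Pt F K ⧸ torus F K) = c := by
      by_contra hx
      rw [he, if_neg hx, mul_zero, Nat.zero_mod] at h1
      omega
    have he1' : e = 1 := by rw [he, if_pos hx1]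
    rw [he1', mul_one] at h1
    have hp2 : p = 2 := by
      rcases (Nat.lt_or_ge p 4) with h | h
      · have := hp.two_le
        interval_cases p <;> omega
      · rw [Nat.mod_eq_of_lt (by omega : 3 < p)] at h1; omega
    subst hp2
    exact ⟨rfl, h12, hx1, fun j => by rw [all, he1']⟩

end Frame

end CfsgLib.Singer3
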