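import Cfsg.Agent.Lib.Singer3.Full

/-! An overgroup of the torus containing an involution has an elation. -/

set_option autoImplicit false
set_option linter.style.haveILetI false
set_option linter.unusedSectionVars false

namespace CfsgLib.Singer3

open Module

variable {F K : Type*} [Field F] [Field K] [Algebra F K] [Finite K] (Φ : Frame F K) {G : Subgroup (K ≃ₗ[F] K)}

theorem pds_translate {P : Type*} [CommGroup P] {D : Set P} {q : ℕ} (hD : PDS D q) (c : P) :
    PDS {x | c * x ∈ D} q where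
  card := by
    rw [← hD.card]
    exact Nat.card_congr
      { toFun := fun x => ⟨c * x.1, x.2⟩
        invFun := fun d => ⟨c⁻¹ * d.1, by show c * (c⁻¹ * d.1) ∈ D; rw [mul_inv_cancel_left]; exact d.2⟩
        left_inv := fun x => Subtype.ext (inv_mul_cancel_left c x.1)
        right_inv := fun d => Subtype.ext (mul_inv_cancel_left c d.1) }
  cardP := hD.cardP
  uniq x hx := by
    obtain ⟨d, ⟨h1, h2⟩, hu⟩ := hD.uniq x hx
    refine ⟨c⁻¹ * d, ⟨by show c * (c⁻¹ * d) ∈ D; rw [mul_inv_cancel_left]; exact h1,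
      by show c * (x * (c⁻¹ * d)) ∈ D; rw [mul_left_comm x c⁻¹ d, mul_inv_cancel_left]; exact h2⟩, ?_⟩
    rintro e ⟨he1, he2⟩
    rw [← hu (c * e) ⟨he1, by rw [mul_left_comm]; exact he2⟩, inv_mul_cancel_left]

namespace Frame

/-- `t` is, up to sign, a reflection with centre `u` and functional `k` -/
def IsRefl (t : K ≃ₗ[F] K) (u k : K) : Prop :=
  Φ.θ (k * u) = 1 ∧ ∃ s : F, s * s = 1 ∧ ∀ z, t z = s • (z - (2 * Φ.θ (k * z)) • u)

variable {Φ}

theorem refl_dual {t : K ≃ₗ[F] K} {u k : K} (h : Φ.IsRefl t u k) (r : K) :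
    ∃ s : F, s * s = 1 ∧ Φ.dual t r = s • (r - (2 * Φ.θ (r * u)) • k) := by
  obtain ⟨h1, s, hs, ht⟩ := h
  refine ⟨s, hs, Φ.eq_dual fun z => ?_⟩
  simp only [ht, smul_mul_assoc, mul_smul_comm, sub_mul, mul_sub, map_sub, map_smul, h1, smul_eq_mul]
  linear_combination (Φ.θ (r * z)) * hs

theorem refl_conj {t : K ≃ₗ[F] K} {u k : K} (h : Φ.IsRefl t u k) (g : K ≃ₗ[F] K) :
    Φ.IsRefl (g * t * g⁻¹) (g u) (Φ.dual g k) := by
  obtain ⟨h1, s, hs, ht⟩ := h
  refine ⟨by rw [Φ.dual_spec, h1], s, hs, fun z => ?_⟩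
  obtain ⟨w, rfl⟩ := g.surjective z
  rw [LinearEquiv.mul_apply, LinearEquiv.mul_apply, ← LinearEquiv.mul_apply g⁻¹ g, inv_mul_cancel, LinearEquiv.coe_one,
    id_eq, ht, map_smul, map_sub, map_smul, Φ.dual_spec]

theorem refl_smul {t : K ≃ₗ[F] K} {u k : K} (h : Φ.IsRefl t u k) {c : F} (hc : c ≠ 0) :
    Φ.IsRefl t (c • u) (c⁻¹ • k) := by
  obtain ⟨h1, s, hs, ht⟩ := h
  refine ⟨by rw [smul_mul_smul_comm, inv_mul_cancel₀ hc, one_smul, h1], s, hs, fun z => ?_⟩
  rw [ht, smul_mul_assoc, map_smul, smul_smul, smul_eq_mul]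
  congr 3
  field_simp

/-- two reflections with one centre give an elation -/
theorem flag_of_refl_two (h2 : (2 : F) ≠ 0) {t t' : K ≃ₗ[F] K} {u k k' : K} (ht : Φ.IsRefl t u k)
    (ht' : Φ.IsRefl t' u k') (hG : t ∈ G) (hG' : t' ∈ G) (hne : k ≠ k') (hu : u ≠ 0) : ∃ x l, Φ.Flag G x l := by
  obtain ⟨h1, s, hs, hz⟩ := ht
  obtain ⟨h1', s', hs', hz'⟩ := ht'
  have h0 : Φ.θ ((k - k') * u) = 0 := by rw [sub_mul, map_sub, h1, h1', sub_self]
  have hprod : ∀ z, (t' * t) z = (s * s') • (z + (2 * Φ.θ ((k - k') * z)) • u) := by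
    intro z
    rw [LinearEquiv.mul_apply, hz, map_smul, hz', mul_sub, map_sub, mul_smul_comm, map_smul, h1', sub_mul, map_sub,
      smul_eq_mul]
    module
  have hsq : ∀ z, ((t' * t) * (t' * t)) z = z + (4 * Φ.θ ((k - k') * z)) • u := by
    intro z
    rw [LinearEquiv.mul_apply, hprod z, map_smul, hprod, mul_add, map_add, mul_smul_comm, map_smul, h0, smul_zero,
      add_zero, smul_smul, add_assoc, ← add_smul]
    rw [show s * s' * (s * s') = 1 by linear_combination (s' * s') * hs + hs', one_smul]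
    congr 2
    ring
  have h4 : (4 : F) ≠ 0 := by rw [show (4 : F) = 2 * 2 by norm_num]; exact mul_ne_zero h2 h2
  obtain ⟨v, hv⟩ := exists_pt hu
  obtain ⟨r, hr⟩ := exists_pt (smul_ne_zero h4 (sub_ne_zero.2 hne) : (4 : F) • (k - k') ≠ 0)
  refine ⟨(v : Pt F K), (r : Pt F K), v, r, rfl, rfl, ?_⟩
  rw [hv, hr]
  refine ⟨by rw [smul_mul_assoc, map_smul, h0, smul_zero], t' * t * (t' * t),
    mul_mem (mul_mem hG' hG) (mul_mem hG' hG), fun z => ?_⟩
  rw [hsq, smul_mul_assoc, map_smul, smul_eq_mul]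

/-- a reflection in an overgroup of the torus -/
theorem flag_of_refl (Φ : Frame F K) (hG : Over G) (h4 : Nat.card F ≠ 4) (h2 : (2 : F) ≠ 0) {t : K ≃ₗ[F] K} (ht : t ∈ G)
    {u k : Kˣ} (hr : Φ.IsRefl t u k) : ∃ x l, Φ.Flag G x l := by
  by_contra hno
  haveI : Finite F := finite_base_field F K
  set x : Pt F K := (u : Pt F K) with hx
  set l : Pt F K := (k : Pt F K) with hl
  have hD := pds_translate Φ.pds (l * x)
  have hodd : Odd (Nat.card F ^ 2 + Nat.card F + 1) := by
    rw [show Nat.card F ^ 2 + Nat.card F = Nat.card F * (Nat.card F + 1) by ring]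
    exact (Nat.even_mul_succ_self _).add_one
  have hone : (1 : Pt F K) ∉ {y | l * x * y ∈ Φ.D} := by
    intro h
    rw [Set.mem_ofPred_eq, mul_one, hl, hx, Φ.inc_iff, hr.1] at h
    exact one_ne_zero h
  refine inv_closed_false hD Finite.one_lt_card (torus F K) ?_ hone hodd ?_
  · rcases torus_cases (F := F) (K := K) Φ.dim h4 with h | ⟨h3, h7, -⟩
    · exact Or.inl h
    · exact Or.inr ⟨h3, h7⟩
  rintro _ ⟨a, ha, rfl⟩ hinc
  rw [Set.mem_ofPred_eq, QuotientGroup.mk'_apply] at hinc ⊢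
  -- `a x` lies on the axis of `t`
  have hku : Φ.θ ((k : K) * ((a : K) * u)) = 0 := by
    rw [hl, hx, mul_assoc, mul_comm (u : Pt F K), ← QuotientGroup.mk_mul, Φ.inc_iff, Units.val_mul] at hinc
    exact hinc
  have hra := refl_conj hr (mulL (F := F) a)
  rw [mulL_apply, Φ.dual_mulL, mulL_apply] at hra
  have hta := refl_conj hra t
  obtain ⟨hku1, s, hs, htz⟩ := hr
  have htau : t ((a : K) * u) = s • ((a : K) * u) := by rw [htz, hku, mul_zero, zero_smul, sub_zero]
  have hs0 : s ≠ 0 := fun h0 => by rw [h0, mul_zero] at hs; exact zero_ne_one hs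
  rw [htau] at hta
  have hta' := refl_smul hta hs0
  rw [smul_smul, hs, one_smul] at hta'
  set k' : K := ((a⁻¹ : Kˣ) : K) * k with hk'
  have haG : mulL (F := F) a ∈ G := hG a ha
  have heq : k' = s⁻¹ • Φ.dual t k' := by
    by_contra hne
    exact hno (flag_of_refl_two h2 hra hta' (mul_mem (mul_mem haG ht) (inv_mem haG))
      (mul_mem (mul_mem ht (mul_mem (mul_mem haG ht) (inv_mem haG))) (inv_mem ht)) hne
      (mul_ne_zero a.ne_zero u.ne_zero))
  obtain ⟨s', hs', hd⟩ := refl_dual (Φ := Φ) (t := t) (u := (u : K)) (k := (k : K)) ⟨hku1, s, hs, htz⟩ k'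
  rw [hd, smul_smul] at heq
  by_cases hk0 : Φ.θ (k' * u) = 0
  · rw [hl, hx, mul_comm (_ * _), ← QuotientGroup.mk_inv, ← mul_assoc, ← QuotientGroup.mk_mul, Φ.inc_iff,
      Units.val_mul]
    exact hk0
  · exfalso
    set c := s⁻¹ * s' with hc
    have hlin : (c * (2 * Φ.θ (k' * u))) • (k : K) = (c - 1) • k' := by
      conv_rhs => rw [sub_smul, one_smul]; arg 2; rw [heq]
      rw [smul_sub, smul_smul]; abel
    have hs'0 : s' ≠ 0 := fun h0 => by rw [h0, mul_zero] at hs'; exact zero_ne_one hs'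
    have hcne : c * (2 * Φ.θ (k' * u)) ≠ 0 :=
      mul_ne_zero (mul_ne_zero (inv_ne_zero hs0) hs'0) (mul_ne_zero h2 hk0)
    have hpt : ((a⁻¹ * k : Kˣ) : Pt F K) = (k : Pt F K) :=
      pt_eq.2 ⟨(c * (2 * Φ.θ (k' * u)))⁻¹ * (c - 1), by rw [mul_smul, Units.val_mul, ← hk', ← hlin, inv_smul_smul₀ hcne]⟩
    rw [QuotientGroup.mk_mul, mul_eq_right, QuotientGroup.mk_inv, inv_eq_one] at hpt
    rw [hpt, mul_one] at hinc
    apply hone
    rw [Set.mem_ofPred_eq, mul_one]
    exact hinc

/-- an involution of determinant one gives a reflection or an elation -/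
theorem flag_of_involution (Φ : Frame F K) (hG : Over G) (h4 : Nat.card F ≠ 4) {t : K ≃ₗ[F] K} (ht : t ∈ G)
    (ht2 : t * t = 1) (ht1 : t ≠ 1) (hdet : LinearMap.det (t : K →ₗ[F] K) = 1) : ∃ x l, Φ.Flag G x l := by
  have htt : ∀ z, t (t z) = z := fun z => by rw [← LinearEquiv.mul_apply, ht2]; rfl
  have rank_one : ∀ N : K →ₗ[F] K, finrank F (LinearMap.range N) = 1 →
      ∃ u k : K, u ≠ 0 ∧ k ≠ 0 ∧ (∃ w, N w = u) ∧ ∀ z, N z = Φ.θ (k * z) • u := by
    intro N hN
    obtain ⟨⟨u, w, rfl⟩, hu0, hspan⟩ := finrank_eq_one_iff'.1 hN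
    have hu : N w ≠ 0 := fun h => hu0 (Subtype.ext h)
    choose f hf using fun z => hspan ⟨N z, z, rfl⟩
    have hf' : ∀ z, f z • N w = N z := fun z => congrArg Subtype.val (hf z)
    let L : K →ₗ[F] F :=
      { toFun := f
        map_add' := fun a b => smul_left_injective F hu (by simp only; rw [hf', map_add, add_smul, hf', hf'])
        map_smul' := fun c a => smul_left_injective F hu (by simp only [RingHom.id_apply, smul_eq_mul]; rw [hf', map_smul, mul_smul, hf']) }
    obtain ⟨k, hk⟩ := Φ.exists_tk L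
    refine ⟨N w, k, hu, fun h0 => hu ?_, ⟨w, rfl⟩, fun z => ?_⟩
    · rw [← hf' w, show f w = L w from rfl, hk, h0, zero_mul, map_zero, zero_smul]
    · rw [← hf', show f z = L z from rfl, hk]
  by_cases h2 : (2 : F) = 0
  · let N : K →ₗ[F] K := (t : K →ₗ[F] K) - LinearMap.id
    have hN : ∀ z, N z = t z - z := fun z => rfl
    have hneg : ∀ z : K, -z = z := fun z => by
      rw [neg_eq_iff_add_eq_zero, ← two_smul F z, h2, zero_smul]
    have hNN : LinearMap.range N ≤ LinearMap.ker N := by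
      rintro _ ⟨z, rfl⟩
      rw [LinearMap.mem_ker, hN, hN, map_sub, htt]
      rw [show z - t z - (t z - z) = (z - t z) + (z - t z) by abel, ← two_smul F (z - t z), h2, zero_smul]
    have hd := N.finrank_range_add_finrank_ker
    have hle := Submodule.finrank_mono hNN
    rw [Φ.dim] at hd
    have hpos : finrank F (LinearMap.range N) ≠ 0 := by
      intro h0
      rw [Submodule.finrank_eq_zero, LinearMap.range_eq_bot] at h0
      exact ht1 (LinearEquiv.ext fun z => sub_eq_zero.1 (by show t z - z = 0; rw [← hN, h0]; rfl))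
    obtain ⟨u, k, hu, hk, ⟨w, hw⟩, hz⟩ := rank_one N (by omega)
    obtain ⟨v, rfl⟩ := exists_pt hu
    obtain ⟨r, rfl⟩ := exists_pt hk
    refine ⟨(v : Pt F K), (r : Pt F K), v, r, rfl, rfl, ?_, t, ht, fun z => ?_⟩
    · have h0 : N v = 0 := by rw [← hw]; exact hNN ⟨w, rfl⟩
      rw [hz] at h0
      exact (smul_eq_zero.1 h0).resolve_right v.ne_zero
    · rw [← hz, hN]; abel
  · let Q : F → (K →ₗ[F] K) := fun s => (2 : F)⁻¹ • (LinearMap.id - s • (t : K →ₗ[F] K))
    have hQ : ∀ s z, Q s z = (2 : F)⁻¹ • (z - s • t z) := fun s z => rfl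
    have hsum : ∀ z, Q 1 z + Q (-1) z = z := fun z => by
      rw [hQ, hQ, ← smul_add, show z - (1 : F) • t z + (z - (-1 : F) • t z) = (2 : F) • z by module,
        inv_smul_smul₀ h2]
    have hidem : ∀ s : F, s * s = 1 → ∀ z, Q s (Q s z) = Q s z := by
      intro s hs z
      rw [hQ, hQ]
      rw [map_smul, map_sub, map_smul, htt]
      match_scalars <;> field_simp <;> first | linear_combination hs | linear_combination -hs | ring
    have hker : LinearMap.range (Q (-1)) = LinearMap.ker (Q 1) := by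
      apply le_antisymm
      · rintro _ ⟨z, rfl⟩
        rw [LinearMap.mem_ker, hQ, hQ, map_smul, map_sub, map_smul, htt]
        match_scalars <;> ring
      · intro z hz
        exact ⟨z, by have := hsum z; rw [LinearMap.mem_ker.1 hz, zero_add] at this; exact this⟩
    have hd := (Q 1).finrank_range_add_finrank_ker
    rw [← hker, Φ.dim] at hd
    have hne : ∀ s : F, s * s = 1 → finrank F (LinearMap.range (Q s)) ≠ 0 := by
      intro s hs h0
      rw [Submodule.finrank_eq_zero, LinearMap.range_eq_bot] at h0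
      have htz : ∀ z, t z = s • z := fun z => by
        have := hQ s z
        rw [h0, LinearMap.zero_apply, eq_comm, smul_eq_zero, sub_eq_zero] at this
        have h' := this.resolve_left (inv_ne_zero h2)
        conv_rhs => rw [h']
        rw [smul_smul, hs, one_smul]
      have hdet' : s ^ 3 = 1 := by
        rw [← hdet, show (t : K →ₗ[F] K) = s • LinearMap.id from LinearMap.ext htz, LinearMap.det_smul, LinearMap.det_id,
          mul_one, Φ.dim]
      have : s = 1 := by linear_combination hdet' - s * hs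
      subst this
      exact ht1 (LinearEquiv.ext fun z => by rw [htz, one_smul]; rfl)
    have h1 := hne 1 (one_mul 1)
    have h1' := hne (-1) (by ring)
    obtain ⟨s, hs, hr⟩ : ∃ s : F, s * s = 1 ∧ finrank F (LinearMap.range (Q s)) = 1 := by
      by_cases h : finrank F (LinearMap.range (Q 1)) = 1
      · exact ⟨1, one_mul 1, h⟩
      · exact ⟨-1, by ring, by omega⟩
    obtain ⟨u, k, hu, hk, ⟨w, hw⟩, hz⟩ := rank_one (Q s) hr
    obtain ⟨v, rfl⟩ := exists_pt hu
    obtain ⟨r, rfl⟩ := exists_pt hk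
    refine flag_of_refl Φ hG h4 h2 ht (u := v) (k := r) ⟨?_, s, hs, fun z => ?_⟩
    · have hfix : Q s (v : K) = (v : K) := by rw [← hw, hidem s hs]
      rw [hz] at hfix
      exact smul_left_injective F v.ne_zero (show _ • (v : K) = (1 : F) • (v : K) by rw [one_smul]; exact hfix)
    · have := hz z
      rw [hQ] at this
      rw [mul_smul, ← this, smul_inv_smul₀ h2, sub_sub_cancel, smul_smul, hs, one_smul]

end Frame

end CfsgLib.Singer3
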