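import Cfsg.Agent.Lib.Singer3.Elation
import Mathlib

/-! A soluble overgroup of the torus normalises the field. -/

set_option autoImplicit false
set_option linter.style.haveILetI false
set_option linter.unusedSectionVars false

namespace CfsgLib.Singer3

open Module Polynomial
open scoped commutatorElement

variable {F K : Type*} [Field F] [Field K] [Algebra F K] [Finite K]

/-- a scalar map -/
def IsScalarMap (g : K ≃ₗ[F] K) : Prop := ∃ c : F, ∀ z, g z = c • z

theorem independent_of_characters {V ι M : Type*} [AddCommGroup V] [Module F V] [Fintype ι] [Monoid M]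
    (S : M →* (V →ₗ[F] V)) (v : ι → V) (hv : ∀ i, v i ≠ 0) (χ : ι → M → F)
    (h : ∀ i b, S b (v i) = χ i b • v i) (hne : Function.Injective χ) : LinearIndependent F v := by
  classical
  let φ : ι → M →* F := fun i =>
    { toFun := χ i
      map_one' := smul_left_injective F (hv i) (by show χ i 1 • v i = (1 : F) • v i; rw [← h, map_one, one_smul]; rfl)
      map_mul' := fun b b' => smul_left_injective F (hv i) (by
        show χ i (b * b') • v i = (χ i b * χ i b') • v i
        rw [← h, map_mul, Module.End.mul_apply, h, map_smul, h, smul_smul, mul_comm]) }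
  have hφ : Function.Injective φ := fun i j e => hne (congrArg (fun f : M →* F => (f : M → F)) e)
  rw [Fintype.linearIndependent_iff]
  intro c hc i
  by_contra hci
  obtain ⟨f, hf⟩ := Module.Projective.exists_dual_ne_zero F (smul_ne_zero hci (hv i))
  have hind := (linearIndependent_monoidHom M F).comp φ hφ
  rw [Fintype.linearIndependent_iff] at hind
  have h0 := hind (fun j => c j * f (v j)) (funext fun b => by
    have := congrArg (fun x => f (S b x)) hc
    simp only [map_sum, map_smul, h, map_zero, smul_eq_mul] at this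
    rw [Finset.sum_apply, Pi.zero_apply, ← this]
    exact Finset.sum_congr rfl fun j _ => by
      show c j * f (v j) * χ j b = c j * (χ j b * f (v j))
      ring) i
  rw [map_smul, smul_eq_mul] at hf
  exact hf h0

variable {G : Subgroup (K ≃ₗ[F] K)}

/-- every element generating the field -/
theorem adjoin_top (hdim : finrank F K = 3) {a : Kˣ} (ha : a ∉ base F K) : Algebra.adjoin F {(a : K)} = ⊤ := by
  haveI := Subalgebra.isSimpleOrder_of_finrank_prime F K (by rw [hdim]; norm_num)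
  refine (eq_bot_or_eq_top (Algebra.adjoin F {(a : K)})).resolve_left fun h => ha ?_
  have h1 : (a : K) ∈ Algebra.adjoin F {(a : K)} := Algebra.subset_adjoin rfl
  rw [h, Algebra.mem_bot] at h1
  obtain ⟨c, hc⟩ := h1
  exact mem_base.2 ⟨c, hc⟩

theorem invariant_eq (hdim : finrank F K = 3) {a : Kˣ} (ha : a ∉ base F K) (W : Submodule F K)
    (hW : ∀ w ∈ W, (a : K) * w ∈ W) : W = ⊥ ∨ W = ⊤ := by
  refine or_iff_not_imp_left.2 fun hne => ?_
  obtain ⟨w, hw, hw0⟩ := Submodule.exists_mem_ne_zero_of_ne_bot hne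
  have hall : ∀ k : K, ∀ w ∈ W, k * w ∈ W := by
    intro k
    have hk : k ∈ Algebra.adjoin F {(a : K)} := adjoin_top hdim ha ▸ Algebra.mem_top
    induction hk using Algebra.adjoin_induction with
    | mem x hx => obtain rfl : x = a := hx; exact hW
    | algebraMap c => intro w hw; rw [← Algebra.smul_def]; exact W.smul_mem c hw
    | add x y _ _ hx hy => intro w hw; rw [add_mul]; exact W.add_mem (hx w hw) (hy w hw)
    | mul x y _ _ hx hy => intro w hw; rw [mul_assoc]; exact hx _ (hy w hw)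
  rw [eq_top_iff]
  intro z _
  simpa [hw0] using hall (z * w⁻¹) w hw

theorem eq_mul_of_commute (hdim : finrank F K = 3) {a : Kˣ} (ha : a ∉ base F K) {g : K ≃ₗ[F] K}
    (hc : ∀ z, g ((a : K) * z) = (a : K) * g z) : ∀ z, g z = g 1 * z := by
  intro z
  have hz : z ∈ Algebra.adjoin F {(a : K)} := adjoin_top hdim ha ▸ Algebra.mem_top
  suffices h : ∀ w, g (z * w) = z * g w by rw [← mul_one z, h, mul_comm, mul_one]
  induction hz using Algebra.adjoin_induction with
  | mem x hx => obtain rfl : x = a := hx; exact hc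
  | algebraMap c => intro w; rw [← Algebra.smul_def, map_smul, Algebra.smul_def]
  | add x y _ _ hx hy => intro w; rw [add_mul, map_add, hx, hy, add_mul]
  | mul x y _ _ hx hy => intro w; rw [mul_assoc, hx, hy, mul_assoc]

theorem isScalar_of_pointwise {g : K ≃ₗ[F] K} {k : K} (h : ∀ z, g z = k * z) {c : F} (hk : k = algebraMap F K c) :
    IsScalarMap g := ⟨c, fun z => by rw [h, hk, Algebra.smul_def]⟩

/-- normal sets of maps, for the torus -/
def Stable (B : Subgroup (K ≃ₗ[F] K)) : Prop :=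
  ∀ a ∈ normOne F K, ∀ b ∈ B, mulL a * b * (mulL a)⁻¹ ∈ B

theorem mulL_mul (a b : Kˣ) : mulL (F := F) a * mulL b = mulL (a * b) :=
  LinearEquiv.ext fun z => by
    show (a : K) * ((b : K) * z) = _
    rw [← mul_assoc]; rfl

theorem mulL_one : mulL (F := F) (1 : Kˣ) = 1 := LinearEquiv.ext fun z => by
  show ((1 : Kˣ) : K) * z = z
  rw [Units.val_one, one_mul]

theorem mulL_inv (a : Kˣ) : (mulL (F := F) a)⁻¹ = mulL a⁻¹ := by
  rw [inv_eq_iff_mul_eq_one, mulL_mul, mul_inv_cancel, mulL_one]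

variable (F K) in
/-- a transversal of the scalars in the torus -/
theorem exists_reps : ∃ r : torus F K → Kˣ, ∀ x, r x ∈ normOne F K ∧ (r x : Pt F K) = x := by
  refine ⟨fun x => x.2.choose, fun x => ⟨x.2.choose_spec.1, x.2.choose_spec.2⟩⟩

theorem torus_facts (Φ : Frame F K) (h4 : Nat.card F ≠ 4) :
    7 ≤ Nat.card (torus F K) ∧ ¬ 2 ∣ Nat.card (torus F K) ∧ ¬ 3 ∣ Nat.card (torus F K) := by
  have hP := Φ.pds.cardP
  have hmul := (torus F K).index_mul_card
  rw [hP] at hmul
  haveI : Finite F := finite_base_field F K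
  have h2 : 2 ≤ Nat.card F := Finite.one_lt_card
  set T := Nat.card (torus F K)
  set q := Nat.card F
  have hev : ¬ 2 ∣ q ^ 2 + q + 1 := by
    intro h
    obtain ⟨k, hk⟩ := Nat.even_mul_succ_self q
    rw [show q ^ 2 + q = q * (q + 1) by ring, hk] at h
    omega
  rcases torus_cases (F := F) (K := K) Φ.dim h4 with h | ⟨h3, h7, hmod⟩
  · rw [h, Subgroup.index_top, one_mul] at hmul
    refine ⟨by rw [hmul]; nlinarith, hmul ▸ hev, fun hd => ?_⟩
    have hidx : (torus F K).index = 1 := by rw [h, Subgroup.index_top]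
    have hq : q % 3 ≠ 1 := by
      intro hq
      have hsurj : Nat.gcd (q - 1) 3 = 3 := Nat.gcd_eq_right (by omega)
      have hsub : (torus F K).index = Nat.gcd (q - 1) 3 := torus_index Φ.dim
      omega
    rw [hmul] at hd
    obtain ⟨k, hk⟩ : ∃ k, q = 3 * k + q % 3 := ⟨q / 3, by omega⟩
    have : q % 3 < 3 := Nat.mod_lt _ (by norm_num)
    rcases (by omega : q % 3 = 0 ∨ q % 3 = 2) with e | e <;> rw [e] at hk <;>
      rw [hk] at hd <;> ring_nf at hd <;> omega
  · rw [h3] at hmul
    refine ⟨by nlinarith, fun hd => hev (hmul ▸ hd.mul_left 3), fun hd => ?_⟩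
    obtain ⟨k, hk⟩ : ∃ k, q = 3 * k + 1 := ⟨q / 3, by omega⟩
    obtain ⟨m, hm⟩ := hd
    rw [hm, hk] at hmul
    ring_nf at hmul
    omega

theorem pt_pow_three (Φ : Frame F K) (h4 : Nat.card F ≠ 4) {x : Pt F K} (hx : x ∈ torus F K) (h : x ^ 3 = 1) : x = 1 := by
  have h1 : orderOf (⟨x, hx⟩ : torus F K) ∣ 3 := orderOf_dvd_of_pow_eq_one (Subtype.ext h)
  rcases (Nat.dvd_prime Nat.prime_three).1 h1 with e | e
  · exact congrArg Subtype.val (orderOf_eq_one_iff.1 e)
  · exact absurd (e ▸ orderOf_dvd_natCard _) (torus_facts Φ h4).2.2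

theorem pt_sq (Φ : Frame F K) (h4 : Nat.card F ≠ 4) {x : Pt F K} (hx : x ∈ torus F K) (h : x ^ 2 = 1) : x = 1 := by
  have h1 : orderOf (⟨x, hx⟩ : torus F K) ∣ 2 := orderOf_dvd_of_pow_eq_one (Subtype.ext h)
  rcases (Nat.dvd_prime Nat.prime_two).1 h1 with e | e
  · exact congrArg Subtype.val (orderOf_eq_one_iff.1 e)
  · exact absurd (e ▸ orderOf_dvd_natCard _) (torus_facts Φ h4).2.1

/-- no common eigenvector for a torus-stable group of maps not all scalar -/
theorem no_eigen (Φ : Frame F K) (h4 : Nat.card F ≠ 4) {B : Subgroup (K ≃ₗ[F] K)} (hB : Stable B)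
    {b₀ : K ≃ₗ[F] K} (hb₀ : b₀ ∈ B) (hb₀' : ¬ IsScalarMap b₀) {v : K} (hv : v ≠ 0) :
    ¬ ∀ b ∈ B, ∃ c : F, b v = c • v := by
  classical
  intro h
  choose χ hχ using fun b : B => h b.1 b.2
  obtain ⟨r, hr⟩ := exists_reps F K
  haveI : Fintype (torus F K) := Fintype.ofFinite _
  let conj : torus F K → B → B := fun x b => ⟨(mulL (r x))⁻¹ * b.1 * mulL (r x), by
    have := hB (r x)⁻¹ (inv_mem (hr x).1) b.1 b.2
    rwa [← mulL_inv, inv_inv] at this⟩
  have hconj : ∀ (x : torus F K) (b : B), b.1 ((r x : K) * v) = χ (conj x b) • ((r x : K) * v) := by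
    intro x b
    have := congrArg (fun z => (r x : K) * z) (hχ (conj x b))
    simp only [mul_smul_comm] at this
    rw [← this]
    show b.1 ((r x : K) * v) = mulL (F := F) (r x) ((((mulL (r x))⁻¹ * b.1 * mulL (r x) : K ≃ₗ[F] K)) v)
    rw [← LinearEquiv.mul_apply, mul_assoc, mul_inv_cancel_left, LinearEquiv.mul_apply]; rfl
  let S : B →* (K →ₗ[F] K) :=
    { toFun := fun b => (b.1 : K →ₗ[F] K)
      map_one' := rfl
      map_mul' := fun b b' => rfl }
  have hli := independent_of_characters S (fun x => (r x : K) * v) (fun x => mul_ne_zero (r x).ne_zero hv)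
    (fun x b => χ (conj x b)) (fun x b => hconj x b) ?_
  · have := hli.fintype_card_le_finrank
    rw [← Nat.card_eq_fintype_card, Φ.dim] at this
    have := (torus_facts Φ h4).1
    omega
  intro x y hxy
  by_contra hne
  set c : Kˣ := (r x)⁻¹ * r y with hc
  have hcb : c ∉ base F K := fun hb => hne (Subtype.ext (by rw [← (hr x).2, ← (hr y).2]; exact QuotientGroup.eq.2 hb))
  let W : Submodule F K :=
    { carrier := {w | ∀ b : B, b.1 w = χ b • w}
      zero_mem' := fun b => by rw [map_zero, smul_zero]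
      add_mem' := fun {a a'} h h' b => by rw [map_add, h b, h' b, smul_add]
      smul_mem' := fun e a h b => by rw [map_smul, h b, smul_comm] }
  have hW : ∀ w ∈ W, (c : K) * w ∈ W := by
    intro w hw b
    -- move `b` across `c`
    have hmem : mulL (r x) * b.1 * (mulL (r x))⁻¹ ∈ B := hB (r x) (hr x).1 b.1 b.2
    set b' : B := ⟨_, hmem⟩ with hb'
    have h1 : (conj x b').1 = b.1 := by
      show (mulL (r x))⁻¹ * (mulL (r x) * b.1 * (mulL (r x))⁻¹) * mulL (r x) = b.1
      group
    have h1' : conj x b' = b := Subtype.ext h1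
    have h2 : (conj y b').1 = (mulL c)⁻¹ * b.1 * mulL c := by
      show (mulL (r y))⁻¹ * (mulL (r x) * b.1 * (mulL (r x))⁻¹) * mulL (r y) = _
      rw [hc, ← mulL_mul, ← mulL_inv]
      group
    have h3 : χ b = χ (conj y b') := by
      have := congrFun hxy b'
      simp only [h1'] at this
      exact this
    have h4' := hw (conj y b')
    rw [← h3, h2] at h4'
    have := congrArg (fun z => (c : K) * z) h4'
    simp only [mul_smul_comm] at this
    rw [← this]
    show b.1 ((c : K) * w) = mulL (F := F) c ((((mulL c)⁻¹ * b.1 * mulL c : K ≃ₗ[F] K)) w)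
    rw [← LinearEquiv.mul_apply, mul_assoc, mul_inv_cancel_left, LinearEquiv.mul_apply]; rfl
  rcases invariant_eq Φ.dim hcb W hW with h0 | htop
  · exact hv (by have : v ∈ W := fun b => hχ b; rwa [h0, Submodule.mem_bot] at this)
  · exact hb₀' ⟨χ ⟨b₀, hb₀⟩, fun z => (htop ▸ Submodule.mem_top : z ∈ W) ⟨b₀, hb₀⟩⟩

/-- an abelian torus-stable group of maps consists of multiplications -/
theorem abelian_le_field (Φ : Frame F K) (h4 : Nat.card F ≠ 4) {B : Subgroup (K ≃ₗ[F] K)} (hB : Stable B)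
    (hcomm : ∀ a ∈ B, ∀ b ∈ B, a * b = b * a) {b : K ≃ₗ[F] K} (hb : b ∈ B) (hns : ¬ IsScalarMap b) :
    ∀ z, b z = b 1 * z := by
  classical
  obtain ⟨r, hr⟩ := exists_reps F K
  haveI : Fintype (torus F K) := Fintype.ofFinite _
  let E := Algebra.adjoin F ((fun g : K ≃ₗ[F] K => (g : K →ₗ[F] K)) '' (B : Set (K ≃ₗ[F] K)))
  have hEc : ∀ x ∈ ((fun g : K ≃ₗ[F] K => (g : K →ₗ[F] K)) '' (B : Set (K ≃ₗ[F] K))),
      ∀ y ∈ ((fun g : K ≃ₗ[F] K => (g : K →ₗ[F] K)) '' (B : Set (K ≃ₗ[F] K))), x * y = y * x := by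
    rintro _ ⟨x, hx, rfl⟩ _ ⟨y, hy, rfl⟩
    exact congrArg (fun g : K ≃ₗ[F] K => (g : K →ₗ[F] K)) (hcomm x hx y hy)
  have hEB : ∀ e ∈ E, ∀ g ∈ B, ∀ z, e (g z) = g (e z) := by
    intro e he g hg
    induction he using Algebra.adjoin_induction with
    | mem x hx =>
      obtain ⟨x, hx, rfl⟩ := hx
      intro z
      exact LinearEquiv.congr_fun (hcomm x hx g hg) z
    | algebraMap c => intro z; rw [Module.algebraMap_end_apply, Module.algebraMap_end_apply, map_smul]
    | add x y _ _ hx hy => intro z; rw [LinearMap.add_apply, LinearMap.add_apply, hx, hy, map_add]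
    | mul x y _ _ hx hy => intro z; rw [Module.End.mul_apply, Module.End.mul_apply, hy, hx]
  have hinj : ∀ e ∈ E, e ≠ 0 → Function.Injective e := by
    intro e he hne
    rw [← LinearMap.ker_eq_bot]
    by_contra hker
    have hkinv : ∀ g ∈ B, ∀ z ∈ LinearMap.ker e, g z ∈ LinearMap.ker e := fun g hg z hz => by
      rw [LinearMap.mem_ker, hEB e he g hg, LinearMap.mem_ker.1 hz, map_zero]
    have hd : finrank F (LinearMap.ker e) ≠ 0 := fun h0 => hker (Submodule.finrank_eq_zero.1 h0)
    have hd3 : finrank F (LinearMap.ker e) < 3 := by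
      rw [← Φ.dim]
      exact Submodule.finrank_lt fun htop => hne (LinearMap.ker_eq_top.1 htop)
    rcases (by omega : finrank F (LinearMap.ker e) = 1 ∨ finrank F (LinearMap.ker e) = 2) with h1 | h2
    · obtain ⟨⟨v, hv⟩, hv0, hspan⟩ := finrank_eq_one_iff'.1 h1
      refine no_eigen Φ h4 hB hb hns (v := v) (fun h0 => hv0 (Subtype.ext h0)) fun g hg => ?_
      obtain ⟨c, hc⟩ := hspan ⟨g v, hkinv g hg v hv⟩
      exact ⟨c, (congrArg Subtype.val hc).symm⟩
    · have hker1 : finrank F (LinearMap.ker e).dualAnnihilator = 1 := by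
        have := Subspace.finrank_add_finrank_dualAnnihilator_eq (LinearMap.ker e)
        rw [h2, Φ.dim] at this
        omega
      obtain ⟨f, hf, hf0⟩ := Submodule.exists_mem_ne_zero_of_ne_bot (p := (LinearMap.ker e).dualAnnihilator) (fun h => by
        rw [h, finrank_bot] at hker1; omega)
      have hspan : ∀ w : (LinearMap.ker e).dualAnnihilator, ∃ c : F, c • (⟨f, hf⟩ : (LinearMap.ker e).dualAnnihilator) = w := by
        intro w
        have hle : Submodule.span F {f} ≤ (LinearMap.ker e).dualAnnihilator := (Submodule.span_singleton_le_iff_mem _ _).2 hf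
        have heq := Submodule.eq_of_le_of_finrank_le hle (by rw [hker1, finrank_span_singleton hf0])
        obtain ⟨c, hc⟩ := Submodule.mem_span_singleton.1 (show w.1 ∈ Submodule.span F {f} by rw [heq]; exact w.2)
        exact ⟨c, Subtype.ext hc⟩
      obtain ⟨k, hk⟩ := Φ.exists_tk f
      have hk0 : k ≠ 0 := fun h0 => hf0 (LinearMap.ext fun z => by
        rw [hk, h0, zero_mul, map_zero]; rfl)
      have hB' : Stable (B.map Φ.dual) := by
        rintro a ha _ ⟨g, hg, rfl⟩
        refine ⟨mulL a⁻¹ * g * (mulL a⁻¹)⁻¹, hB a⁻¹ (inv_mem ha) g hg, ?_⟩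
        rw [map_mul, map_mul, map_inv, Φ.dual_mulL, inv_inv]
      have hns' : ¬ IsScalarMap (Φ.dual b) := by
        rintro ⟨c, hc⟩
        refine hns ⟨c⁻¹, fun z => ?_⟩
        have hc0 : c ≠ 0 := fun h0 => one_ne_zero (α := K) ((Φ.dual b).map_eq_zero_iff.1 (by rw [hc, h0, zero_smul]))
        refine (Φ.tke.injective.eq_iff).1 (LinearMap.ext fun y => ?_)
        rw [Φ.tke_apply, Φ.tke_apply]
        have := Φ.dual_spec b y z
        rw [hc, smul_mul_assoc, map_smul, smul_eq_mul] at this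
        rw [mul_comm (b z), smul_mul_assoc, map_smul, smul_eq_mul, mul_comm z y, ← this, inv_mul_cancel_left₀ hc0]
      refine no_eigen Φ h4 hB' (Subgroup.mem_map_of_mem _ hb) hns' hk0 ?_
      rintro _ ⟨g, hg, rfl⟩
      obtain ⟨c, hc⟩ := hspan ⟨f.comp (g⁻¹ : K ≃ₗ[F] K).toLinearMap, by
        rw [Submodule.mem_dualAnnihilator]
        intro w hw
        exact (Submodule.mem_dualAnnihilator _).1 hf _ (hkinv g⁻¹ (inv_mem hg) w hw)⟩
      refine ⟨c, Φ.eq_dual fun z => ?_⟩
      rw [smul_mul_assoc, map_smul, ← hk, ← hk]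
      have := LinearMap.congr_fun (congrArg Subtype.val hc) (g z)
      simp only [SetLike.val_smul, LinearMap.smul_apply, LinearMap.coe_comp, LinearEquiv.coe_coe, Function.comp_apply] at this
      rw [this, ← LinearEquiv.mul_apply, inv_mul_cancel]; rfl
  letI : CommRing E := Algebra.adjoinCommRingOfComm F hEc
  haveI : IsDomain E := by
    haveI : Nontrivial E := ⟨0, 1, fun h => one_ne_zero (α := K) (by
      have := congrArg (fun x : E => (x : K →ₗ[F] K) 1) h
      simpa using this.symm)⟩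
    haveI : NoZeroDivisors E := ⟨fun {x y} hxy => by
      rcases eq_or_ne x 0 with h | h
      · exact Or.inl h
      · right
        apply Subtype.ext
        refine LinearMap.ext fun z => hinj x.1 x.2 (fun e => h (Subtype.ext e)) ?_
        rw [show (x : K →ₗ[F] K) ((y : K →ₗ[F] K) z) = ((x * y : E) : K →ₗ[F] K) z from rfl, hxy]
        simp⟩
    exact NoZeroDivisors.to_isDomain E
  have hroot : ∀ x : torus F K, (⟨((mulL (r x) * b * (mulL (r x))⁻¹ : K ≃ₗ[F] K) : K →ₗ[F] K),
      Algebra.subset_adjoin ⟨_, hB _ (hr x).1 b hb, rfl⟩⟩ : E) ∈ ((b : K →ₗ[F] K).charpoly.aroots E).toFinset := by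
    intro x
    rw [Multiset.mem_toFinset, Polynomial.mem_aroots]
    refine ⟨(LinearMap.charpoly_monic _).ne_zero, Subtype.ext ?_⟩
    rw [Polynomial.aeval_subalgebra_coe]
    have hcj : ((mulL (r x) * b * (mulL (r x))⁻¹ : K ≃ₗ[F] K) : K →ₗ[F] K) = (mulL (r x)).conj (b : K →ₗ[F] K) :=
      LinearMap.ext fun z => rfl
    show aeval ((mulL (r x) * b * (mulL (r x))⁻¹ : K ≃ₗ[F] K) : K →ₗ[F] K) _ = _
    rw [hcj, ← LinearEquiv.charpoly_conj (mulL (r x)) (b : K →ₗ[F] K), LinearMap.aeval_self_charpoly]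
    rfl
  by_contra hnot
  have hcard := Finset.card_le_card_of_injOn (s := (Finset.univ : Finset (torus F K))) _ (fun x _ => hroot x) ?_
  · have h1 := Multiset.toFinset_card_le ((b : K →ₗ[F] K).charpoly.aroots E)
    have h2 : Multiset.card ((b : K →ₗ[F] K).charpoly.aroots E) ≤ 3 := by
      refine (Polynomial.card_roots' _).trans (Polynomial.natDegree_map_le.trans ?_)
      rw [LinearMap.charpoly_natDegree, Φ.dim]
    rw [Finset.card_univ, ← Nat.card_eq_fintype_card] at hcard
    have := (torus_facts Φ h4).1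
    omega
  intro x _ y _ hxy
  by_contra hne
  apply hnot
  have hxy' : mulL (r x) * b * (mulL (r x))⁻¹ = mulL (r y) * b * (mulL (r y))⁻¹ :=
    LinearEquiv.toLinearMap_injective (congrArg Subtype.val hxy)
  have hcb : (r x)⁻¹ * r y ∉ base F K := fun hb' =>
    hne (Subtype.ext (by rw [← (hr x).2, ← (hr y).2]; exact QuotientGroup.eq.2 hb'))
  refine eq_mul_of_commute Φ.dim hcb fun z => ?_
  have h3 : b * mulL ((r x)⁻¹ * r y) = mulL ((r x)⁻¹ * r y) * b := by
    rw [← mulL_mul, ← mulL_inv]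
    calc b * ((mulL (r x))⁻¹ * mulL (r y)) = (mulL (r x))⁻¹ * (mulL (r x) * b * (mulL (r x))⁻¹) * mulL (r y) := by group
      _ = _ := by rw [hxy']; group
  exact LinearEquiv.congr_fun h3 z

/-- the soluble case -/
theorem semi_of_solvable (Φ : Frame F K) (h4 : Nat.card F ≠ 4) (hG : Over G) [Group.IsSolvable G]
    (hdet : ∀ g ∈ G, LinearMap.det (g : K →ₗ[F] K) = 1) :
    ∀ g ∈ G, ∀ k : K, ∃ k' : K, ∀ z, g (k * z) = k' * g z := by
  classical
  by_cases hsc : ∀ a ∈ G, IsScalarMap a
  · intro g hg k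
    obtain ⟨c, hc⟩ := hsc g hg
    exact ⟨k, fun z => by rw [hc, hc, mul_smul_comm]⟩
  -- the last derived term with a non-scalar
  let D : ℕ → Subgroup (K ≃ₗ[F] K) := fun i => (derivedSeries G i).map G.subtype
  have hex : ∃ n, ∀ a ∈ D n, IsScalarMap a := by
    obtain ⟨n, hn⟩ := ‹Group.IsSolvable G›
    refine ⟨n, fun a ha => ?_⟩
    obtain ⟨a', ha', rfl⟩ := ha
    rw [SetLike.mem_coe, hn, Subgroup.mem_bot] at ha'
    exact ⟨1, fun z => by rw [ha', map_one, one_smul]; rfl⟩
  have h0 : Nat.find hex ≠ 0 := by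
    intro h0
    have := Nat.find_spec hex
    rw [h0] at this
    exact hsc fun a ha => this a ⟨⟨a, ha⟩, by rw [derivedSeries_zero]; exact Subgroup.mem_top _, rfl⟩
  obtain ⟨i, hi⟩ := Nat.exists_eq_succ_of_ne_zero h0
  have hDi : ∃ b ∈ D i, ¬ IsScalarMap b := by
    have := Nat.find_min hex (show i < Nat.find hex by omega)
    simpa using this
  have hDsucc : ∀ a ∈ D i, ∀ b ∈ D i, IsScalarMap (a * b * a⁻¹ * b⁻¹) := by
    rintro _ ⟨a, ha, rfl⟩ _ ⟨b, hb, rfl⟩
    have := Nat.find_spec hex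
    rw [hi] at this
    refine this _ ⟨⁅a, b⁆, ?_, by rw [commutatorElement_def]; simp⟩
    rw [derivedSeries_succ]
    exact Subgroup.commutator_mem_commutator ha hb
  have hDG : D i ≤ G := Subgroup.map_subtype_le _
  have hDnorm : ∀ g ∈ G, ∀ b ∈ D i, g * b * g⁻¹ ∈ D i := by
    rintro g hg _ ⟨b, hb, rfl⟩
    exact ⟨⟨g, hg⟩ * b * (⟨g, hg⟩ : G)⁻¹, (derivedSeries_normal G i).conj_mem b hb _, rfl⟩
  have field_case : ∀ B : Subgroup (K ≃ₗ[F] K), (∀ g ∈ G, ∀ b ∈ B, g * b * g⁻¹ ∈ B) →
      (∀ a ∈ B, ∀ b ∈ B, a * b = b * a) → ∀ b ∈ B, ¬ IsScalarMap b →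
      ∀ g ∈ G, ∀ k : K, ∃ k' : K, ∀ z, g (k * z) = k' * g z := by
    intro B hnorm hcomm b hb hns g hg k
    have hst : Stable B := fun a ha c hc => hnorm _ (hG a ha) c hc
    have h1 := abelian_le_field Φ h4 hst hcomm hb hns
    have h2mem : g * b * g⁻¹ ∈ B := hnorm g hg b hb
    have h2ns : ¬ IsScalarMap (g * b * g⁻¹) := by
      rintro ⟨c, hc⟩
      refine hns ⟨c, fun z => g.injective ?_⟩
      have := hc (g z)
      rw [LinearEquiv.mul_apply, LinearEquiv.mul_apply, ← LinearEquiv.mul_apply g⁻¹ g, inv_mul_cancel] at this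
      rw [map_smul]
      exact this
    have h2 := abelian_le_field Φ h4 hst hcomm h2mem h2ns
    have hbK : Units.mk0 (b 1) (fun e => one_ne_zero (α := K) (b.map_eq_zero_iff.1 e)) ∉ base F K := by
      intro hb'
      obtain ⟨c, hc⟩ := mem_base.1 hb'
      exact hns (isScalar_of_pointwise h1 hc.symm)
    have hk : k ∈ Algebra.adjoin F {(b 1 : K)} := by
      have := adjoin_top (F := F) (K := K) Φ.dim hbK
      rw [Units.val_mk0] at this
      rw [this]; exact Algebra.mem_top
    induction hk using Algebra.adjoin_induction with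
    | mem x hx =>
      obtain rfl : x = b 1 := hx
      refine ⟨(g * b * g⁻¹) 1, fun z => ?_⟩
      rw [← h1, ← h2, LinearEquiv.mul_apply, LinearEquiv.mul_apply, ← LinearEquiv.mul_apply g⁻¹ g, inv_mul_cancel]
      rfl
    | algebraMap c => exact ⟨algebraMap F K c, fun z => by rw [← Algebra.smul_def, map_smul, Algebra.smul_def]⟩
    | add x y _ _ hx hy =>
      obtain ⟨x', hx'⟩ := hx; obtain ⟨y', hy'⟩ := hy
      exact ⟨x' + y', fun z => by rw [add_mul, map_add, hx', hy', add_mul]⟩
    | mul x y _ _ hx hy =>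
      obtain ⟨x', hx'⟩ := hx; obtain ⟨y', hy'⟩ := hy
      exact ⟨x' * y', fun z => by rw [mul_assoc, hx', hy', mul_assoc]⟩
  let C := D i ⊓ Subgroup.centralizer (D i : Set (K ≃ₗ[F] K))
  by_cases hC : ∃ b ∈ C, ¬ IsScalarMap b
  · obtain ⟨b, hb, hns⟩ := hC
    refine field_case C (fun g hg c hc => ⟨hDnorm g hg c hc.1, ?_⟩) (fun a ha c hc => (Subgroup.mem_centralizer_iff.1 ha.2 c hc.1).symm) b hb hns
    show g * c * g⁻¹ ∈ Subgroup.centralizer (D i : Set (K ≃ₗ[F] K))
    rw [Subgroup.mem_centralizer_iff]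
    intro d hd
    have hd' : g⁻¹ * d * g ∈ D i := by simpa using hDnorm g⁻¹ (inv_mem hg) d hd
    have := Subgroup.mem_centralizer_iff.1 hc.2 _ hd'
    calc d * (g * c * g⁻¹) = g * (g⁻¹ * d * g * c) * g⁻¹ := by group
      _ = g * (c * (g⁻¹ * d * g)) * g⁻¹ := by rw [this]
      _ = g * c * g⁻¹ * d := by group
  exfalso
  simp only [not_exists, not_and, not_not] at hC
  obtain ⟨b, hb, hns⟩ := hDi
  -- the pairing into cube roots of unity
  have hω : ∀ a ∈ D i, ∀ c ∈ D i, ∃ w : F, w ^ 3 = 1 ∧ ∀ z, a (c z) = w • c (a z) := by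
    intro a ha c hc
    obtain ⟨w, hw⟩ := hDsucc a ha c hc
    refine ⟨w, ?_, fun z => ?_⟩
    · have hd := hdet _ (hDG (mul_mem (mul_mem (mul_mem ha hc) (inv_mem ha)) (inv_mem hc)))
      rw [show ((a * c * a⁻¹ * c⁻¹ : K ≃ₗ[F] K) : K →ₗ[F] K) = w • LinearMap.id from LinearMap.ext hw,
        LinearMap.det_smul, LinearMap.det_id, mul_one, Φ.dim] at hd
      exact hd
    · rw [← hw (c (a z))]
      show (a * c) z = ((a * c * a⁻¹ * c⁻¹) * (c * a)) z
      congr 1
      group
  choose! w hw3 hw using hω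
  have hwsymm : ∀ a ∈ D i, ∀ c ∈ D i, ∀ z, c (a z) = (w a c) ^ 2 • a (c z) := by
    intro a ha c hc z
    rw [hw a ha c hc, smul_smul, ← pow_succ, hw3 a ha c hc, one_smul]
  have hcen : ∀ a ∈ D i, (∀ c ∈ D i, w a c = 1) → IsScalarMap a := fun a ha h => hC a ⟨ha, by
    show a ∈ Subgroup.centralizer (D i : Set (K ≃ₗ[F] K))
    rw [Subgroup.mem_centralizer_iff]
    intro c hc
    exact LinearEquiv.ext fun z => by
      rw [LinearEquiv.mul_apply, LinearEquiv.mul_apply, hw a ha c hc, h c hc, one_smul]⟩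
  have key : ∀ b ∈ D i, ¬ IsScalarMap b → ∀ z, b z = b 1 * z := by
    intro b hb hns
    by_contra hK
    obtain ⟨r, hr⟩ := exists_reps F K
    haveI : Fintype (torus F K) := Fintype.ofFinite _
    let el : torus F K × Bool → (K ≃ₗ[F] K) := fun xe =>
      bif xe.2 then mulL (r xe.1) * b * (mulL (r xe.1))⁻¹ else (mulL (r xe.1) * b * (mulL (r xe.1))⁻¹)⁻¹
    have hel : ∀ xe, el xe ∈ D i := by
      rintro ⟨x, _ | _⟩
      · exact inv_mem (hDnorm _ (hG _ (hr x).1) b hb)
      · exact hDnorm _ (hG _ (hr x).1) b hb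
    let S : D i →* ((K →ₗ[F] K) →ₗ[F] (K →ₗ[F] K)) :=
      { toFun := fun c => (c.1).conj.toLinearMap
        map_one' := LinearMap.ext fun m => LinearMap.ext fun z => rfl
        map_mul' := fun c c' => LinearMap.ext fun m => LinearMap.ext fun z => rfl }
    have hS : ∀ (xe : torus F K × Bool) (c : D i), S c (el xe : K →ₗ[F] K) = (w c.1 (el xe)) • (el xe : K →ₗ[F] K) := by
      intro xe c
      refine LinearMap.ext fun z => ?_
      show c.1 (el xe (c.1.symm z)) = (w c.1 (el xe)) • el xe z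
      rw [hw _ c.2 _ (hel xe), c.1.apply_symm_apply]
    -- equal characters give equal classes
    have hclass : ∀ a ∈ D i, ∀ a' ∈ D i, (∀ c ∈ D i, w c a = w c a') → IsScalarMap (a⁻¹ * a') := by
      intro a ha a' ha' h
      have hm : a⁻¹ * a' ∈ D i := mul_mem (inv_mem ha) ha'
      refine hC _ ⟨hm, ?_⟩
      show a⁻¹ * a' ∈ Subgroup.centralizer (D i : Set (K ≃ₗ[F] K))
      rw [Subgroup.mem_centralizer_iff]
      intro c hc
      refine LinearEquiv.ext fun z => ?_
      show c (a⁻¹ (a' z)) = a⁻¹ (a' (c z))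
      apply a.injective
      have e1 : a (c (a⁻¹ (a' z))) = (w c a) ^ 2 • c (a' z) := by
        rw [hwsymm c hc a ha, ← LinearEquiv.mul_apply a a⁻¹, mul_inv_cancel]; rfl
      rw [e1, ← LinearEquiv.mul_apply a a⁻¹ , mul_inv_cancel, LinearEquiv.coe_one, id_eq, hwsymm c hc a' ha', h c hc]
    have hfix : ∀ c : Kˣ, c ∈ normOne F K → IsScalarMap (b⁻¹ * (mulL c * b * (mulL c)⁻¹)) → (c : Pt F K) = 1 := by
      rintro c hc ⟨e, he⟩
      have hm : ∀ z, (c : K) * b z = e • b ((c : K) * z) := by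
        intro z
        have := congrArg b (he (mulL (F := F) c z))
        rw [map_smul, LinearEquiv.mul_apply, LinearEquiv.mul_apply, LinearEquiv.mul_apply, ← LinearEquiv.mul_apply (mulL c)⁻¹,
          inv_mul_cancel, ← LinearEquiv.mul_apply b b⁻¹, mul_inv_cancel] at this
        exact this
      have he3 : e ^ 3 = 1 := by
        have hd : LinearMap.det ((b⁻¹ * (mulL c * b * (mulL c)⁻¹) : K ≃ₗ[F] K) : K →ₗ[F] K) = 1 :=
          hdet _ (mul_mem (inv_mem (hDG hb)) (mul_mem (mul_mem (hG c hc) (hDG hb)) (inv_mem (hG c hc))))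
        rw [show ((b⁻¹ * (mulL c * b * (mulL c)⁻¹) : K ≃ₗ[F] K) : K →ₗ[F] K) = e • LinearMap.id from LinearMap.ext he,
          LinearMap.det_smul, LinearMap.det_id, mul_one, Φ.dim] at hd
        exact hd
      refine pt_pow_three Φ h4 ⟨c, hc, rfl⟩ ?_
      by_contra hne
      have hb3 : c ^ 3 ∉ base F K := fun h => hne (by
        rw [← QuotientGroup.mk_pow]; exact (QuotientGroup.eq_one_iff _).2 h)
      have hbz := eq_mul_of_commute Φ.dim hb3 (g := b) fun z => by
        have e1 : ∀ y, b ((c : K) * y) = e⁻¹ • ((c : K) * b y) := fun y => by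
          rw [hm, inv_smul_smul₀ fun h0 => by rw [h0, zero_pow (by norm_num)] at he3; exact zero_ne_one he3]
        rw [Units.val_pow_eq_pow_val, show ((c : K) ^ 3) * z = (c : K) * ((c : K) * ((c : K) * z)) by ring, e1, e1, e1]
        simp only [mul_smul_comm, smul_smul]
        rw [show e⁻¹ * (e⁻¹ * e⁻¹) = (e ^ 3)⁻¹ by ring, he3, inv_one, one_smul]
        ring
      exact hK hbz
    have hconj : ∀ (h m : K ≃ₗ[F] K), IsScalarMap m → IsScalarMap (h * m * h⁻¹) := fun h m ⟨e, he⟩ => ⟨e, fun z => by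
      rw [LinearEquiv.mul_apply, LinearEquiv.mul_apply, he, map_smul, ← LinearEquiv.mul_apply h h⁻¹, mul_inv_cancel]; rfl⟩
    have hone : IsScalarMap (1 : K ≃ₗ[F] K) := ⟨1, fun z => (one_smul F z).symm⟩
    have hinvs : ∀ m : K ≃ₗ[F] K, IsScalarMap m → IsScalarMap m⁻¹ := fun m ⟨e, he⟩ => by
      have he0 : e ≠ 0 := fun h0 => one_ne_zero (α := K) (m.map_eq_zero_iff.1 (by rw [he, h0, zero_smul]))
      refine ⟨e⁻¹, fun z => m.injective ?_⟩
      rw [he (e⁻¹ • z), smul_inv_smul₀ he0, ← LinearEquiv.mul_apply m m⁻¹, mul_inv_cancel]; rfl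
    have hmuls : ∀ m m' : K ≃ₗ[F] K, IsScalarMap m → IsScalarMap m' → IsScalarMap (m * m') := fun m m' ⟨e, he⟩ ⟨e', he'⟩ =>
      ⟨e * e', fun z => by rw [LinearEquiv.mul_apply, he, he', smul_smul]⟩
    have hmixed : ∀ x y : torus F K,
        IsScalarMap ((mulL (r x) * b * (mulL (r x))⁻¹) * (mulL (r y) * b * (mulL (r y))⁻¹)) → False := by
      intro x y hs
      set c : Kˣ := (r x)⁻¹ * r y with hc
      have hcn : c ∈ normOne F K := mul_mem (inv_mem (hr x).1) (hr y).1
      have h1 : IsScalarMap (b * (mulL c * b * (mulL c)⁻¹)) := by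
        have := hconj (mulL (r x))⁻¹ _ hs
        convert this using 1
        rw [hc, ← mulL_mul, ← mulL_inv]; group
      have hc2 : IsScalarMap (b⁻¹ * (mulL (c * c) * b * (mulL (c * c))⁻¹)) := by
        have h3 := hmuls _ _ (hconj b⁻¹ _ (hinvs _ h1)) (hconj (mulL c) _ h1)
        convert h3 using 1
        rw [← mulL_mul]; group
      have hsq := hfix (c * c) (mul_mem hcn hcn) hc2
      rw [QuotientGroup.mk_mul, ← sq] at hsq
      have hc1 := pt_sq Φ h4 ⟨c, hcn, rfl⟩ hsq
      obtain ⟨e, he⟩ := mem_base.1 ((QuotientGroup.eq_one_iff _).1 hc1)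
      have hcb : mulL c * b * (mulL c)⁻¹ = b := by
        rw [mul_inv_eq_iff_eq_mul]
        exact LinearEquiv.ext fun z => by
          show (c : K) * b z = b ((c : K) * z)
          rw [← he, ← Algebra.smul_def, ← Algebra.smul_def, map_smul]
      rw [hcb] at h1
      obtain ⟨e', he'⟩ := h1
      refine hns (hcen b hb fun d hd => ?_)
      have hbb : ∀ z, b (b z) = e' • z := he'
      have h5 : ∀ z, e' • d z = ((w b d) ^ 2 * e') • d z := fun z => by
        conv_lhs => rw [← hbb (d z), hw b hb d hd, map_smul, hw b hb d hd, smul_smul, hbb, map_smul, smul_smul, ← sq]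
      have he0 : e' ≠ 0 := fun h0 => one_ne_zero (α := K) ((b * b).map_eq_zero_iff.1 (by
        show b (b 1) = 0
        rw [hbb, h0, zero_smul]))
      have h6 := smul_left_injective F (fun h => one_ne_zero (α := K) (d.map_eq_zero_iff.1 h) : d 1 ≠ 0) (h5 1)
      have h7 : (w b d) ^ 2 = 1 := by
        have := h6.symm
        rwa [mul_eq_right₀ he0] at this
      linear_combination hw3 b hb d hd - (w b d) * h7
    have heq : ∀ x y : torus F K,
        IsScalarMap ((mulL (r x) * b * (mulL (r x))⁻¹)⁻¹ * (mulL (r y) * b * (mulL (r y))⁻¹)) → x = y := by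
      intro x y hs
      have h1 : IsScalarMap (b⁻¹ * (mulL ((r x)⁻¹ * r y) * b * (mulL ((r x)⁻¹ * r y))⁻¹)) := by
        have := hconj (mulL (r x))⁻¹ _ hs
        convert this using 1
        rw [← mulL_mul, ← mulL_inv]; group
      have := hfix _ (mul_mem (inv_mem (hr x).1) (hr y).1) h1
      rw [QuotientGroup.mk_mul, QuotientGroup.mk_inv, (hr x).2, (hr y).2] at this
      exact Subtype.ext (inv_mul_eq_one.1 this)
    have hinj : Function.Injective (fun (xe : torus F K × Bool) (c : D i) => w c.1 (el xe)) := by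
      rintro ⟨x, s⟩ ⟨y, t⟩ hxy
      have hs := hclass _ (hel (x, s)) _ (hel (y, t)) fun c hc => congrFun hxy ⟨c, hc⟩
      cases s <;> cases t <;> simp only [el, cond_true, cond_false, inv_inv] at hs
      · congr 1
        refine heq x y ?_
        have h' := hinvs _ (hconj (mulL (r x) * b * (mulL (r x))⁻¹)⁻¹ _ hs)
        convert h' using 1
        group
      · exact (hmixed x y hs).elim
      · refine (hmixed y x ?_).elim
        have h' := hinvs _ hs
        convert h' using 1
        group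
      · exact congrArg (·, true) (heq x y hs)
    have hli := independent_of_characters S (fun xe => (el xe : K →ₗ[F] K))
      (fun xe h0 => one_ne_zero (α := K) ((el xe).map_eq_zero_iff.1 (LinearMap.congr_fun h0 1)))
      (fun xe c => w c.1 (el xe)) hS hinj
    have h9 := hli.fintype_card_le_finrank
    rw [Module.finrank_linearMap, Φ.dim, Fintype.card_prod, Fintype.card_bool, ← Nat.card_eq_fintype_card] at h9
    have := (torus_facts Φ h4).1
    omega
  refine hns (hcen b hb fun d hd => ?_)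
  have hbd : ∀ z, b (d z) = d (b z) := by
    intro z
    by_cases hd' : IsScalarMap d
    · obtain ⟨e, he⟩ := hd'
      rw [he, he, map_smul]
    · have hb' := key b hb hns
      have hd'' := key d hd hd'
      rw [hb' (d z), hd'' z, hd'' (b z), hb' z]; ring
  refine smul_left_injective F (fun h => one_ne_zero (α := K) (b.map_eq_zero_iff.1 (d.map_eq_zero_iff.1 h)) : d (b 1) ≠ 0) ?_
  show w b d • d (b 1) = (1 : F) • d (b 1)
  rw [← hw b hb d hd, hbd, one_smul]

end CfsgLib.Singer3
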