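import Cfsg.Agent.Lib.Singer3.Involution
import Cfsg.Agent.Lib.Singer3.Solvable
import Cfsg.Agent.S0205

/-! A determinant-one overgroup of the torus outside the field normaliser has every transvection. -/

set_option autoImplicit false
set_option linter.style.haveILetI false

namespace CfsgLib.Singer3

open Module

theorem all_transvections {F K : Type*} [Field F] [Field K] [Algebra F K] [Finite K] (hdim : finrank F K = 3)
    (h4 : Nat.card F ≠ 4) {G : Subgroup (K ≃ₗ[F] K)} (hG : Over G)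
    (hdet : ∀ g ∈ G, LinearMap.det (g : K →ₗ[F] K) = 1)
    (hns : ∃ g ∈ G, ¬ ∀ k : K, ∃ k' : K, ∀ z, g (k * z) = k' * g z) (a : K) (θ : K →ₗ[F] F) (hθ : θ a = 0) :
    ∃ g ∈ G, ∀ z, g z = z + θ z • a := by
  classical
  haveI : Module.Finite F K := Module.Finite.of_finite
  haveI : Nontrivial K := inferInstance
  obtain ⟨f, hf⟩ : ∃ f : K →ₗ[F] F, f ≠ 0 := by
    obtain ⟨f, hf⟩ := Module.Projective.exists_dual_ne_zero F (one_ne_zero (α := K))
    exact ⟨f, fun h => hf (by rw [h]; rfl)⟩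
  let Φ : Frame F K := ⟨f, hf, hdim⟩
  haveI := finite_aut (F := F) (K := K)
  obtain ⟨x, l, hfl⟩ : ∃ x l, Φ.Flag G x l := by
    by_cases heven : 2 ∣ Nat.card G
    · haveI : Fact (Nat.Prime 2) := ⟨Nat.prime_two⟩
      obtain ⟨t, ht⟩ := exists_prime_orderOf_dvd_card' 2 heven
      have ht2 : (t : G) * t = 1 := by rw [← sq, ← ht]; exact pow_orderOf_eq_one t
      refine Frame.flag_of_involution Φ hG h4 t.2 (congrArg Subtype.val ht2) (fun h => ?_) (hdet _ t.2)
      rw [show t = 1 from Subtype.ext h, orderOf_one] at ht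
      omega
    · exfalso
      obtain ⟨g, hg, hgn⟩ := hns
      haveI : Group.IsSolvable G := Cfsg.Agent.S0205.result (Nat.odd_iff.2 (by omega))
      exact hgn (semi_of_solvable Φ h4 hG hdet g hg)
  obtain ⟨k, hk⟩ := Φ.exists_tk θ
  by_cases ha : a = 0
  · exact ⟨1, one_mem G, fun z => by rw [ha, smul_zero, add_zero]; rfl⟩
  obtain ⟨u, rfl⟩ := exists_pt ha
  obtain ⟨-, g, hg, hgz⟩ := Frame.func_full Φ hG h4 hfl u k (by rw [← hk]; exact hθ)
  exact ⟨g, hg, fun z => by rw [hgz, hk]⟩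

end CfsgLib.Singer3
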