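import Cfsg.Agent.Lib.Singer3.Main
import Cfsg.Agent.Lib.ExtFieldMax.Matrix

/-! The normaliser of a cubic field subalgebra is maximal in the special linear group of dimension three, `q ≠ 4`. -/

set_option autoImplicit false
set_option linter.style.haveILetI false

namespace CfsgLib.Singer3

open Module Matrix Cfsg.Geo
open scoped MatrixGroups

variable {F : Type*} [Field F] [Fintype F]

theorem sl_le_singer (hq : Fintype.card F ≠ 4) {K : Subalgebra F (Matrix (Fin 3) (Fin 3) F)}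
    (hK : IsFieldSubalgebra 3 K) (M : Subgroup (GL (Fin 3) F))
    (hle : subalgebraNormalizer K ⊓ specialLinear (Fin 3) F ≤ M) (hsl : M ≤ specialLinear (Fin 3) F)
    (hne : ∃ g ∈ M, g ∉ subalgebraNormalizer K) : specialLinear (Fin 3) F ≤ M := by
  classical
  letI iK : Field ↥K := CfsgLib.ExtFieldMax.fieldOf (by norm_num) hK
  haveI : Finite ↥K := Subtype.finite
  let v0 : Fin 3 → F := Pi.single 0 1
  let ev : ↥K →ₗ[F] (Fin 3 → F) :=
    { toFun := fun k => (k : Matrix (Fin 3) (Fin 3) F) *ᵥ v0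
      map_add' := fun a b => add_mulVec _ _ _
      map_smul' := fun c a => smul_mulVec c _ v0 }
  have hfr : finrank F ↥K = 3 := hK.finrank_eq
  haveI : FiniteDimensional F ↥K := Module.Finite.of_finite
  have hev : Function.Injective ev := by
    rw [← LinearMap.ker_eq_bot, LinearMap.ker_eq_bot']
    intro k hk
    by_contra h
    have h1 : ev (k⁻¹ * k) = ((k⁻¹ : ↥K) : Matrix (Fin 3) (Fin 3) F) *ᵥ ev k := (mulVec_mulVec v0 _ _).symm
    rw [inv_mul_cancel₀ h, hk, mulVec_zero] at h1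
    have h2 : (1 : Matrix (Fin 3) (Fin 3) F) *ᵥ v0 = 0 := h1
    rw [one_mulVec] at h2
    have := congrFun h2 0
    simp [v0] at this
  let e : ↥K ≃ₗ[F] (Fin 3 → F) := LinearMap.linearEquivOfInjective ev hev (by rw [hfr, Module.finrank_fin_fun])
  have he : ∀ k z : ↥K, e (k * z) = (k : Matrix (Fin 3) (Fin 3) F) *ᵥ e z := fun k z => (mulVec_mulVec v0 _ _).symm
  let c : ((Fin 3 → F) ≃ₗ[F] (Fin 3 → F)) →* (↥K ≃ₗ[F] ↥K) :=
    { toFun := fun f => e.trans (f.trans e.symm)
      map_one' := LinearEquiv.ext fun z => e.symm_apply_apply z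
      map_mul' := fun f g => LinearEquiv.ext fun z => by
        show e.symm (f (g (e z))) = e.symm (f (e (e.symm (g (e z)))))
        rw [e.apply_symm_apply] }
  let τ : GL (Fin 3) F →* (↥K ≃ₗ[F] ↥K) := c.comp (CfsgLib.ExtFieldMax.toAut (F := F) (n := 3)).toMonoidHom
  have hτ : ∀ g z, e (τ g z) = (g : Matrix (Fin 3) (Fin 3) F) *ᵥ e z := fun g z => e.apply_symm_apply _
  have hτdet : ∀ g : GL (Fin 3) F,
      LinearMap.det (τ g : ↥K →ₗ[F] ↥K) = (g : Matrix (Fin 3) (Fin 3) F).det := by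
    intro g
    rw [show (τ g : ↥K →ₗ[F] ↥K) = (e.symm : (Fin 3 → F) →ₗ[F] ↥K) ∘ₗ Matrix.toLin' (g : Matrix (Fin 3) (Fin 3) F) ∘ₗ
      (e : ↥K →ₗ[F] (Fin 3 → F)) from LinearMap.ext fun z => rfl]
    have := LinearMap.det_conj (Matrix.toLin' (g : Matrix (Fin 3) (Fin 3) F)) e.symm
    rw [LinearEquiv.symm_symm] at this
    rw [this, LinearMap.det_toLin']
  have hover : Over (M.map τ) := by
    intro a ha
    let g : GL (Fin 3) F := ⟨((a : ↥K) : Matrix (Fin 3) (Fin 3) F), (((a⁻¹ : (↥K)ˣ) : ↥K) : Matrix (Fin 3) (Fin 3) F),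
      congrArg Subtype.val a.mul_inv, congrArg Subtype.val a.inv_mul⟩
    have hga : τ g = mulL a := LinearEquiv.ext fun z => e.injective (by rw [hτ, mulL_apply, he])
    refine ⟨g, hle ⟨?_, ?_⟩, hga⟩
    · have hcomm : ∀ k ∈ K, (g : Matrix (Fin 3) (Fin 3) F) * k * ((g⁻¹ : GL (Fin 3) F) : Matrix (Fin 3) (Fin 3) F) = k := by
        intro k hk
        have h1 : (g : Matrix (Fin 3) (Fin 3) F) * k = k * (g : Matrix (Fin 3) (Fin 3) F) := hK.comm _ (a : ↥K).2 k hk
        rw [h1, Matrix.mul_assoc, ← Units.val_mul, mul_inv_cancel, Units.val_one, Matrix.mul_one]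
      intro k
      constructor
      · intro hk; rw [hcomm k hk]; exact hk
      · intro hk
        have h1 := hcomm _ hk
        have h2 := (Units.mul_right_inj g).mp ((Units.mul_left_inj g⁻¹).mp h1)
        rw [← h2]; exact hk
    · show GeneralLinearGroup.det g = 1
      refine Units.ext ?_
      rw [GeneralLinearGroup.val_det_apply, ← hτdet, hga]
      exact congrArg Units.val ha
  have hdet : ∀ g ∈ M.map τ, LinearMap.det (g : ↥K →ₗ[F] ↥K) = 1 := by
    rintro _ ⟨g, hg, rfl⟩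
    rw [hτdet]
    have := hsl hg
    rw [specialLinear, MonoidHom.mem_ker] at this
    exact congrArg Units.val this
  have hns : ∃ g ∈ M.map τ, ¬ ∀ k : ↥K, ∃ k' : ↥K, ∀ z, g (k * z) = k' * g z := by
    obtain ⟨g₀, hg₀, hg₀N⟩ := hne
    refine ⟨τ g₀, Subgroup.mem_map_of_mem _ hg₀, fun hs => hg₀N ?_⟩
    choose σ hσ using hs
    have hσg : ∀ k : ↥K, (g₀ : Matrix (Fin 3) (Fin 3) F) * k * ((g₀⁻¹ : GL (Fin 3) F) : Matrix (Fin 3) (Fin 3) F) = σ k := by
      intro k
      have h1 : (g₀ : Matrix (Fin 3) (Fin 3) F) * k = (σ k : Matrix (Fin 3) (Fin 3) F) * g₀ :=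
        Matrix.ext_of_mulVec_single fun i => by
          obtain ⟨z, hz⟩ := e.surjective (Pi.single i 1)
          rw [← mulVec_mulVec, ← mulVec_mulVec, ← hz, ← he, ← hτ, ← hτ, hσ, he]
      rw [h1, Matrix.mul_assoc, ← Units.val_mul, mul_inv_cancel, Units.val_one, Matrix.mul_one]
    have hinj : Function.Injective σ := fun a b hab => by
      have h1 := (hσg a).trans ((congrArg Subtype.val hab).trans (hσg b).symm)
      exact Subtype.ext ((Units.mul_right_inj g₀).mp ((Units.mul_left_inj g₀⁻¹).mp h1))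
    intro k
    constructor
    · intro hk; rw [hσg ⟨k, hk⟩]; exact (σ _).2
    · intro hk
      obtain ⟨j, hj⟩ := (Finite.injective_iff_surjective.mp hinj) ⟨_, hk⟩
      have h1 := (hσg j).trans (congrArg Subtype.val hj)
      rw [show k = (j : Matrix (Fin 3) (Fin 3) F) from
        ((Units.mul_right_inj g₀).mp ((Units.mul_left_inj g₀⁻¹).mp h1)).symm]
      exact j.2
  refine CfsgLib.ClassicalMax.sl_le_of_tvGL fun u φ hφ => ?_
  let θ : ↥K →ₗ[F] F :=
    { toFun := fun z => φ ⬝ᵥ e z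
      map_add' := fun x y => by rw [map_add, dotProduct_add]
      map_smul' := fun s x => by rw [map_smul, dotProduct_smul]; rfl }
  obtain ⟨_, ⟨m, hm, rfl⟩, hgx⟩ := all_transvections hfr (by rwa [Nat.card_eq_fintype_card]) hover hdet hns (e.symm u) θ
    (by show φ ⬝ᵥ e (e.symm u) = 0; rw [e.apply_symm_apply, hφ])
  have : CfsgLib.ClassicalMax.tvGL u φ = m := CfsgLib.ClassicalMax.gl_ext_mulVec fun x => by
    obtain ⟨z, rfl⟩ := e.surjective x
    rw [CfsgLib.ClassicalMax.tvGL_mulVec hφ, ← hτ, hgx, map_add, map_smul, e.apply_symm_apply]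
    rfl
  rw [this]; exact hm

/-- the Singer normaliser is maximal -/
theorem singer_maximal (hq : Fintype.card F ≠ 4) {K : Subalgebra F (Matrix (Fin 3) (Fin 3) F)}
    (hK : IsFieldSubalgebra 3 K) :
    IsMaximalIn (specialLinear (Fin 3) F) (subalgebraNormalizer K ⊓ specialLinear (Fin 3) F) := by
  have hnot := CfsgLib.Asch.sl_not_le_extField (F := F) (ι := Fin 3) (by simp) (by norm_num) hK
  refine ⟨lt_of_le_of_ne inf_le_right fun e => hnot (e ▸ inf_le_left), fun M h1 h2 => ?_⟩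
  by_cases h3 : M ≤ subalgebraNormalizer K
  · exact Or.inl (le_antisymm (le_inf h3 h2) h1)
  · obtain ⟨g, hg, hgN⟩ := SetLike.not_le_iff_exists.mp h3
    exact Or.inr (le_antisymm h2 (sl_le_singer hq hK M h1 h2 ⟨g, hg, hgN⟩))

end CfsgLib.Singer3
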