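import Mathlib
import Cfsg.Agent.Lib.Singer3.Diff

/-!
The projective plane of a cubic field extension: points and lines are both `Kˣ/Fˣ`.
-/

set_option autoImplicit false
set_option linter.style.haveILetI false
set_option linter.unusedSectionVars false

namespace CfsgLib.Singer3

open Module

variable (F K : Type*) [Field F] [Field K] [Algebra F K]

/-- the scalars -/
noncomputable def base : Subgroup Kˣ := (Units.map (algebraMap F K).toMonoidHom).range

/-- points (and lines) -/
abbrev Pt := Kˣ ⧸ base F K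

/-- the points form a commutative group, with the quotient operations -/
noncomputable instance (priority := high) instCommGroupPt : CommGroup (Pt F K) :=
  { (QuotientGroup.Quotient.group (base F K) : Group (Pt F K)) with
    mul_comm := fun x y => by
      induction x using QuotientGroup.induction_on with
      | H a =>
        induction y using QuotientGroup.induction_on with
        | H b => exact congrArg (fun u : Kˣ => (u : Pt F K)) (mul_comm a b) }

variable {F K}

theorem mem_base {k : Kˣ} : k ∈ base F K ↔ ∃ c : F, algebraMap F K c = k := by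
  constructor
  · rintro ⟨c, rfl⟩; exact ⟨(c : F), rfl⟩
  · rintro ⟨c, hc⟩
    exact ⟨Units.mk0 c fun h => k.ne_zero (by rw [← hc, h, map_zero]), Units.ext hc⟩

theorem pt_eq {k k' : Kˣ} : (k : Pt F K) = k' ↔ ∃ c : F, (k' : K) = c • (k : K) := by
  rw [QuotientGroup.eq, mem_base]
  constructor
  · rintro ⟨c, hc⟩
    exact ⟨c, by rw [Algebra.smul_def, hc, mul_comm, ← Units.val_mul, mul_inv_cancel_left]⟩
  · rintro ⟨c, hc⟩
    exact ⟨c, by rw [Units.val_mul, hc, Units.val_inv_eq_inv_val, Algebra.smul_def,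
      mul_comm (algebraMap F K c), inv_mul_cancel_left₀ k.ne_zero]⟩

theorem exists_pt {z : K} (hz : z ≠ 0) : ∃ k : Kˣ, (k : K) = z := ⟨Units.mk0 z hz, rfl⟩

/-- multiplication -/
def mulL (k : Kˣ) : K ≃ₗ[F] K :=
  { toFun := fun x => (k : K) * x
    invFun := fun x => ((k⁻¹ : Kˣ) : K) * x
    map_add' := mul_add _
    map_smul' := fun c x => by simp
    left_inv := fun x => by simp
    right_inv := fun x => by simp }

@[simp] theorem mulL_apply (k : Kˣ) (x : K) : mulL (F := F) k x = (k : K) * x := rfl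

/-- a linear bijection on units -/
def unitOf (g : K ≃ₗ[F] K) (k : Kˣ) : Kˣ := Units.mk0 (g k) fun h => k.ne_zero (g.map_eq_zero_iff.1 h)

/-- the action on points -/
noncomputable def move (g : K ≃ₗ[F] K) : Pt F K → Pt F K :=
  Quotient.lift (fun k : Kˣ => (unitOf g k : Pt F K)) fun a b h => by
    have h' : (a : Pt F K) = b := Quotient.sound h
    obtain ⟨c, hc⟩ := pt_eq.1 h'
    exact pt_eq.2 ⟨c, by show g (b : K) = c • g (a : K); rw [hc, map_smul]⟩

theorem move_mk (g : K ≃ₗ[F] K) (k : Kˣ) : move g (k : Pt F K) = (unitOf g k : Pt F K) := rfl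

theorem move_mul (g h : K ≃ₗ[F] K) (x : Pt F K) : move (g * h) x = move g (move h x) := by
  induction x using QuotientGroup.induction_on with
  | H k => exact congrArg (fun u : Kˣ => (u : Pt F K)) (Units.ext rfl)

theorem move_one (x : Pt F K) : move (1 : K ≃ₗ[F] K) x = x := by
  induction x using QuotientGroup.induction_on with
  | H k => exact congrArg (fun u : Kˣ => (u : Pt F K)) (Units.ext rfl)

/-- the permutation of the points -/
noncomputable def perm : (K ≃ₗ[F] K) →* Equiv.Perm (Pt F K) where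
  toFun g := ⟨move g, move g⁻¹, fun x => by rw [← move_mul, inv_mul_cancel, move_one],
    fun x => by rw [← move_mul, mul_inv_cancel, move_one]⟩
  map_one' := Equiv.ext move_one
  map_mul' g h := Equiv.ext (move_mul g h)

theorem perm_mk (g : K ≃ₗ[F] K) (k : Kˣ) : perm g (k : Pt F K) = (unitOf g k : Pt F K) := rfl

theorem perm_mulL (a : Kˣ) (x : Pt F K) : perm (mulL a) x = (a : Pt F K) * x := by
  induction x using QuotientGroup.induction_on with
  | H k => exact congrArg (fun u : Kˣ => (u : Pt F K)) (Units.ext rfl)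

theorem perm_eq_iff {g : K ≃ₗ[F] K} {k k' : Kˣ} :
    perm g (k : Pt F K) = (k' : Pt F K) ↔ ∃ c : F, g (k : K) = c • (k' : K) := by
  rw [perm_mk, eq_comm, pt_eq]; rfl

/-! ### The bilinear form -/

variable (F K) in
/-- a fixed nonzero functional -/
structure Frame where
  θ : K →ₗ[F] F
  ne : θ ≠ 0
  dim : finrank F K = 3

variable (Φ : Frame F K) [Finite K]

namespace Frame

instance instFin : Module.Finite F K := Module.Finite.of_finite

/-- functional of `k` -/
def tk : K →ₗ[F] (K →ₗ[F] F) :=
  { toFun := fun k => Φ.θ.comp (LinearMap.mulLeft F k)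
    map_add' := fun a b => LinearMap.ext fun x => by simp [add_mul]
    map_smul' := fun c a => LinearMap.ext fun x => by simp }

theorem tk_apply (k z : K) : Φ.tk k z = Φ.θ (k * z) := rfl

theorem tk_injective : Function.Injective Φ.tk := by
  rw [← LinearMap.ker_eq_bot, LinearMap.ker_eq_bot']
  intro k hk
  by_contra h
  exact Φ.ne (LinearMap.ext fun z => by
    have := LinearMap.congr_fun hk (k⁻¹ * z)
    rwa [Φ.tk_apply, mul_inv_cancel_left₀ h] at this)

/-- functionals are `tk` -/
noncomputable def tke : K ≃ₗ[F] (K →ₗ[F] F) :=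
  LinearMap.linearEquivOfInjective Φ.tk Φ.tk_injective Subspace.dual_finrank_eq.symm

theorem tke_apply (k z : K) : Φ.tke k z = Φ.θ (k * z) := rfl

theorem exists_tk (f : K →ₗ[F] F) : ∃ k, ∀ z, f z = Φ.θ (k * z) :=
  ⟨Φ.tke.symm f, fun z => by rw [← Φ.tke_apply, LinearEquiv.apply_symm_apply]⟩

/-- inverse adjoint -/
noncomputable def dual : (K ≃ₗ[F] K) →* (K ≃ₗ[F] K) where
  toFun g := Φ.tke.trans ((g.symm.dualMap).trans Φ.tke.symm)
  map_one' := LinearEquiv.ext fun k => by
    show Φ.tke.symm _ = k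
    apply Φ.tke.injective
    rw [LinearEquiv.apply_symm_apply]
    exact LinearMap.ext fun z => rfl
  map_mul' g h := LinearEquiv.ext fun k => by
    show Φ.tke.symm _ = Φ.tke.symm (LinearEquiv.dualMap g.symm (Φ.tke (Φ.tke.symm _)))
    rw [LinearEquiv.apply_symm_apply]
    exact congrArg _ (LinearMap.ext fun z => rfl)

theorem dual_spec (g : K ≃ₗ[F] K) (k z : K) : Φ.θ (Φ.dual g k * g z) = Φ.θ (k * z) := by
  rw [← Φ.tke_apply]
  show Φ.tke (Φ.tke.symm _) (g z) = _
  rw [LinearEquiv.apply_symm_apply]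
  show Φ.tke k (g.symm (g z)) = _
  rw [g.symm_apply_apply, Φ.tke_apply]

theorem dual_mulL (a : Kˣ) : Φ.dual (mulL a) = mulL a⁻¹ := by
  refine LinearEquiv.ext fun k => Φ.tk_injective (LinearMap.ext fun z => ?_)
  obtain ⟨w, rfl⟩ := (mulL (F := F) a).surjective z
  rw [Φ.tk_apply, Φ.dual_spec, Φ.tk_apply, mulL_apply, mulL_apply]
  congr 1
  rw [mul_mul_mul_comm, ← Units.val_mul, inv_mul_cancel, Units.val_one, one_mul]

theorem eq_dual {g : K ≃ₗ[F] K} {k k' : K} (h : ∀ z, Φ.θ (k' * g z) = Φ.θ (k * z)) : Φ.dual g k = k' := by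
  refine Φ.tk_injective (LinearMap.ext fun z => ?_)
  obtain ⟨w, rfl⟩ := g.surjective z
  rw [Φ.tk_apply, Φ.tk_apply, h, Φ.dual_spec]

theorem dual_dual (g : K ≃ₗ[F] K) : Φ.dual (Φ.dual g) = g := LinearEquiv.ext fun z =>
  Φ.eq_dual fun k => by rw [mul_comm, Φ.dual_spec, mul_comm]

/-- incidence: the difference set -/
def D : Set (Pt F K) := {x | ∃ k : Kˣ, (k : Pt F K) = x ∧ Φ.θ (k : K) = 0}

theorem mk_mem_D {k : Kˣ} : (k : Pt F K) ∈ Φ.D ↔ Φ.θ (k : K) = 0 := by
  constructor
  · rintro ⟨k', he, h0⟩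
    obtain ⟨c, hc⟩ := pt_eq.1 he
    rw [hc, map_smul, h0, smul_zero]
  · exact fun h => ⟨k, rfl, h⟩

theorem inc_iff {k z : Kˣ} : (k : Pt F K) * (z : Pt F K) ∈ Φ.D ↔ Φ.θ ((k : K) * z) = 0 := by
  rw [← QuotientGroup.mk_mul, Φ.mk_mem_D, Units.val_mul]

theorem inc_move (g : K ≃ₗ[F] K) (l x : Pt F K) :
    perm (Φ.dual g) l * perm g x ∈ Φ.D ↔ l * x ∈ Φ.D := by
  induction l using QuotientGroup.induction_on with
  | H k =>
    induction x using QuotientGroup.induction_on with
    | H z =>
      rw [perm_mk, perm_mk, Φ.inc_iff, Φ.inc_iff]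
      exact Eq.congr_left (Φ.dual_spec g k z)

theorem finrank_ker : finrank F (LinearMap.ker Φ.θ) = 2 := by
  have h := Φ.θ.finrank_range_add_finrank_ker
  rw [LinearMap.range_eq_top.2 (LinearMap.surjective_of_ne_zero Φ.ne), finrank_top, finrank_self, Φ.dim] at h
  omega

/-- a functional vanishing on two independent vectors of `ker θ` is a multiple of `θ` -/
theorem proportional {k : K} (hk : ∀ z, Φ.θ z = 0 → Φ.θ (k * z) = 0) : ∃ c : F, k = algebraMap F K c := by
  obtain ⟨w, hw⟩ := LinearMap.surjective_of_ne_zero Φ.ne 1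
  refine ⟨Φ.θ (k * w), Φ.tk_injective (LinearMap.ext fun z => ?_)⟩
  rw [Φ.tk_apply, Φ.tk_apply]
  have h := hk (z - Φ.θ z • w) (by rw [map_sub, map_smul, hw, smul_eq_mul, mul_one, sub_self])
  rw [mul_sub, map_sub, mul_smul_comm, map_smul, sub_eq_zero] at h
  rw [h, ← Algebra.smul_def, map_smul, smul_eq_mul, smul_eq_mul, mul_comm]

theorem uniq (x : Pt F K) (hx : x ≠ 1) : ∃! d, d ∈ Φ.D ∧ x * d ∈ Φ.D := by
  induction x using QuotientGroup.induction_on with
  | H a =>
    have hna : ¬ ∀ z, Φ.θ z = 0 → Φ.θ ((a : K) * z) = 0 := fun h => by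
      obtain ⟨c, hc⟩ := Φ.proportional h
      exact hx ((QuotientGroup.eq_one_iff a).2 (mem_base.2 ⟨c, hc.symm⟩))
    let f := LinearMap.prod Φ.θ (Φ.tk a)
    have hf : f.ker ≠ ⊥ := by
      intro h
      have h1 := f.finrank_range_add_finrank_ker
      have h2 := Submodule.finrank_le (LinearMap.range f)
      rw [h, finrank_bot, Φ.dim] at h1
      rw [Module.finrank_prod, finrank_self] at h2
      omega
    obtain ⟨z, hz, hz0⟩ := Submodule.exists_mem_ne_zero_of_ne_bot hf
    obtain ⟨z, rfl⟩ := exists_pt hz0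
    have hz1 : Φ.θ (z : K) = 0 := congrArg Prod.fst hz
    have hz2 : Φ.θ ((a : K) * z) = 0 := congrArg Prod.snd hz
    refine ⟨(z : Pt F K), ⟨Φ.mk_mem_D.2 hz1, Φ.inc_iff.2 hz2⟩, ?_⟩
    rintro d ⟨hd1, hd2⟩
    induction d using QuotientGroup.induction_on with
    | H w =>
      rw [Φ.mk_mem_D] at hd1
      rw [Φ.inc_iff] at hd2
      rw [eq_comm, pt_eq]
      by_contra hne
      simp only [not_exists] at hne
      apply hna
      intro y hy
      have hspan : Submodule.span F {(z : K), (w : K)} = LinearMap.ker Φ.θ := by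
        refine Submodule.eq_of_le_of_finrank_le (Submodule.span_le.2 ?_) ?_
        · intro v hv
          rcases hv with rfl | rfl
          · exact hz1
          · exact hd1
        · rw [Φ.finrank_ker]
          have hli : LinearIndependent F ![(z : K), (w : K)] :=
            LinearIndependent.pair_iff' z.ne_zero |>.2 fun c => Ne.symm (hne c)
          have := finrank_span_eq_card hli
          rw [Matrix.range_cons, Matrix.range_cons, Matrix.range_empty, Set.union_empty,
            Set.singleton_union, Fintype.card_fin] at this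
          exact this.ge
      have hy' : y ∈ Submodule.span F {(z : K), (w : K)} := hspan ▸ hy
      obtain ⟨c, c', rfl⟩ := Submodule.mem_span_pair.1 hy'
      rw [mul_add, mul_smul_comm, mul_smul_comm, map_add, map_smul, map_smul, hz2, hd2, smul_zero, smul_zero, add_zero]

theorem card_base : Nat.card (base F K) = Nat.card F - 1 := by
  haveI : Finite F := Finite.of_injective _ (algebraMap F K).injective
  rw [← Nat.card_units]
  refine (Nat.card_congr (MonoidHom.ofInjective (f := Units.map (algebraMap F K).toMonoidHom) ?_).toEquiv).symm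
  exact Units.map_injective (algebraMap F K).injective

theorem card_pre (T : Set (Pt F K)) :
    Nat.card ((QuotientGroup.mk : Kˣ → Pt F K) ⁻¹' T : Set Kˣ) = Nat.card (base F K) * Nat.card T := by
  rw [Nat.card_congr (QuotientGroup.preimageMkEquivSubgroupProdSet (base F K) T), Nat.card_prod]

theorem pds : PDS Φ.D (Nat.card F) where
  uniq := Φ.uniq
  cardP := by
    haveI : Finite F := Finite.of_injective _ (algebraMap F K).injective
    have h := Subgroup.card_eq_card_quotient_mul_card_subgroup (base F K)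
    rw [Nat.card_units, Module.natCard_eq_pow_finrank (K := F) (V := K), Φ.dim, card_base] at h
    have h2 : 2 ≤ Nat.card F := Finite.one_lt_card
    obtain ⟨m, hm⟩ : ∃ m, Nat.card F = m + 1 := ⟨Nat.card F - 1, by omega⟩
    rw [hm] at h ⊢
    refine Nat.eq_of_mul_eq_mul_right (show 0 < m + 1 - 1 by omega) ?_
    rw [← h, show m + 1 - 1 = m by omega]
    have : (m + 1) ^ 3 = ((m + 1) ^ 2 + (m + 1) + 1) * m + 1 := by ring
    omega
  card := by
    haveI : Finite F := Finite.of_injective _ (algebraMap F K).injective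
    have h := card_pre Φ.D
    have hpre : Nat.card ((QuotientGroup.mk : Kˣ → Pt F K) ⁻¹' Φ.D : Set Kˣ) + 1 = Nat.card (LinearMap.ker Φ.θ) := by
      classical
      haveI : Finite (LinearMap.ker Φ.θ) := Subtype.finite
      rw [← Nat.card_congr (Equiv.optionSubtypeNe (0 : LinearMap.ker Φ.θ)), Finite.card_option]
      congr 1
      exact Nat.card_congr
        { toFun := fun k => ⟨⟨(k.1 : K), LinearMap.mem_ker.2 (Φ.mk_mem_D.1 k.2)⟩, fun e => k.1.ne_zero (congrArg Subtype.val e)⟩
          invFun := fun v => ⟨Units.mk0 (v.1 : K) fun e => v.2 (Subtype.ext e), Φ.mk_mem_D.2 (LinearMap.mem_ker.1 v.1.2)⟩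
          left_inv := fun k => Subtype.ext (Units.ext rfl)
          right_inv := fun v => rfl }
    rw [Module.natCard_eq_pow_finrank (K := F) (V := LinearMap.ker Φ.θ), Φ.finrank_ker] at hpre
    rw [h, card_base] at hpre
    have h2 : 2 ≤ Nat.card F := Finite.one_lt_card
    obtain ⟨m, hm⟩ : ∃ m, Nat.card F = m + 1 := ⟨Nat.card F - 1, by omega⟩
    rw [hm, show m + 1 - 1 = m by omega] at hpre
    rw [hm]
    refine Nat.eq_of_mul_eq_mul_left (show 0 < m by omega) ?_
    nlinarith

end Frame

end CfsgLib.Singer3
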