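import Cfsg.Agent.Lib.Singer3.Setup

/-! The norm-one torus, its orbits on points, and the orbit dichotomy for its overgroups. -/

set_option autoImplicit false
set_option linter.style.haveILetI false
set_option linter.unusedSectionVars false

namespace CfsgLib.Singer3

open Module

variable {F K : Type*} [Field F] [Field K] [Algebra F K] [Finite K]

variable (F K) in
/-- elements of norm one -/
noncomputable def normOne : Subgroup Kˣ := (Units.map (Algebra.norm F (S := K))).ker

variable (F K) in
/-- the image of the torus among the points -/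
noncomputable def torus : Subgroup (Pt F K) := (normOne F K).map (QuotientGroup.mk' (base F K))

variable (F K) in
omit [Finite K] in
theorem finite_base_field [Finite K] : Finite F := Finite.of_injective _ (algebraMap F K).injective

theorem torus_index (hdim : finrank F K = 3) : (torus F K).index = Nat.gcd (Nat.card F - 1) 3 := by
  haveI : Finite F := finite_base_field F K
  let nm : Kˣ →* Fˣ := Units.map (Algebra.norm F (S := K))
  have hsurj : Function.Surjective nm := fun c => by
    obtain ⟨k, hk⟩ := FiniteField.norm_surjective F K (c : F)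
    have hk0 : k ≠ 0 := fun h => c.ne_zero (by rw [← hk, h, Algebra.norm_zero])
    exact ⟨Units.mk0 k hk0, Units.ext hk⟩
  have hmap : (base F K).map nm = (powMonoidHom 3 : Fˣ →* Fˣ).range := by
    rw [base, MonoidHom.map_range]
    congr 1
    refine MonoidHom.ext fun c => Units.ext ?_
    show Algebra.norm F (algebraMap F K (c : F)) = (c : F) ^ 3
    rw [Algebra.norm_algebraMap, hdim]
  rw [torus, ← Subgroup.index_comap_of_surjective _ (QuotientGroup.mk'_surjective (base F K)), Subgroup.comap_map_eq,
    QuotientGroup.ker_mk', sup_comm, normOne, ← Subgroup.comap_map_eq, Subgroup.index_comap_of_surjective _ hsurj, hmap,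
    IsCyclic.index_powMonoidHom_range, Nat.card_units]

theorem torus_cases (hdim : finrank F K = 3) (h4 : Nat.card F ≠ 4) :
    torus F K = ⊤ ∨ (torus F K).index = 3 ∧ 7 ≤ Nat.card F ∧ Nat.card F % 3 = 1 := by
  haveI : Finite F := finite_base_field F K
  have hidx := torus_index (F := F) (K := K) hdim
  rcases (Nat.dvd_prime Nat.prime_three).1 (Nat.gcd_dvd_right (Nat.card F - 1) 3) with h | h
  · exact Or.inl (Subgroup.index_eq_one.1 (hidx.trans h))
  · right
    have h3 : 3 ∣ Nat.card F - 1 := h ▸ Nat.gcd_dvd_left _ _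
    have h2 : 2 ≤ Nat.card F := Finite.one_lt_card
    refine ⟨hidx.trans h, ?_, by omega⟩
    omega

theorem normOne_inv {a : Kˣ} (ha : a ∈ normOne F K) : a⁻¹ ∈ normOne F K := inv_mem ha

/-- an overgroup of the torus -/
def Over (G : Subgroup (K ≃ₗ[F] K)) : Prop := ∀ a ∈ normOne F K, mulL a ∈ G

/-- transitivity on points -/
def Trans (G : Subgroup (K ≃ₗ[F] K)) : Prop := ∀ x y : Pt F K, ∃ g ∈ G, perm g x = y

/-- an invariant torus orbit -/
def InvClass (G : Subgroup (K ≃ₗ[F] K)) (c : Pt F K ⧸ torus F K) : Prop :=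
  ∀ g ∈ G, ∀ x : Pt F K, (x : Pt F K ⧸ torus F K) = c → (perm g x : Pt F K ⧸ torus F K) = c

variable {G : Subgroup (K ≃ₗ[F] K)} (hG : Over G)

include hG in
theorem move_in_class {x y : Pt F K} (h : (x : Pt F K ⧸ torus F K) = (y : Pt F K ⧸ torus F K)) :
    ∃ g ∈ G, perm g x = y := by
  obtain ⟨a, ha, he⟩ := QuotientGroup.eq.1 h
  refine ⟨mulL a, hG a ha, ?_⟩
  rw [perm_mulL]
  rw [QuotientGroup.mk'_apply] at he
  rw [he]
  rw [mul_comm, mul_inv_cancel_left]

include hG in
theorem trans_or_invClass (hdim : finrank F K = 3) (h4 : Nat.card F ≠ 4) (Φ : Frame F K) :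
    Trans G ∨ (torus F K).index = 3 ∧ ∃ c, InvClass G c := by
  rcases torus_cases (F := F) (K := K) hdim h4 with h | ⟨h3, -, -⟩
  · exact Or.inl fun x y => move_in_class hG (QuotientGroup.eq.2 (h ▸ Subgroup.mem_top _))
  · by_cases ht : Trans G
    · exact Or.inl ht
    refine Or.inr ⟨h3, ?_⟩
    by_contra hno
    simp only [not_exists] at hno
    apply ht
    intro x
    -- classes met by the orbit of `x`
    let Ω : (Pt F K ⧸ torus F K) → Prop := fun c => ∃ g ∈ G, (perm g x : Pt F K ⧸ torus F K) = c
    have hfull : ∀ y : Pt F K, Ω (y : Pt F K ⧸ torus F K) → ∃ g ∈ G, perm g x = y := by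
      rintro y ⟨g, hg, he⟩
      obtain ⟨k, hk, hky⟩ := move_in_class hG he
      exact ⟨k * g, mul_mem hk hg, by rw [map_mul, Equiv.Perm.mul_apply, hky]⟩
    have hback : ∀ g ∈ G, ∀ y : Pt F K, Ω (perm g y : Pt F K ⧸ torus F K) → Ω (y : Pt F K ⧸ torus F K) := by
      intro g hg y hy
      obtain ⟨k, hk, hky⟩ := hfull _ hy
      exact ⟨g⁻¹ * k, mul_mem (inv_mem hg) hk, by rw [map_mul, Equiv.Perm.mul_apply, hky, map_inv]; exact congrArg _ ((perm g).symm_apply_apply y)⟩
    have hfwd : ∀ g ∈ G, ∀ y : Pt F K, Ω (y : Pt F K ⧸ torus F K) → Ω (perm g y : Pt F K ⧸ torus F K) := by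
      intro g hg y hy
      obtain ⟨k, hk, hky⟩ := hfull _ hy
      exact ⟨g * k, mul_mem hg hk, by rw [map_mul, Equiv.Perm.mul_apply, hky]⟩
    obtain ⟨b, c, -, -, hbc, hall, -, -⟩ := triple Φ.pds h3 (x : Pt F K ⧸ torus F K)
    have ha : Ω (x : Pt F K ⧸ torus F K) := ⟨1, one_mem _, by rw [map_one]; rfl⟩
    have hb : Ω b := by
      by_contra hb
      by_cases hc : Ω c
      · refine hno b fun g hg y hy => ?_
        rcases hall (perm g y : Pt F K ⧸ torus F K) with e | e | e
        · exact absurd (hy ▸ hback g hg y (e ▸ ha)) hb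
        · exact e
        · exact absurd (hy ▸ hback g hg y (e ▸ hc)) hb
      · refine hno (x : Pt F K ⧸ torus F K) fun g hg y hy => ?_
        have := hfwd g hg y (hy ▸ ha)
        rcases hall (perm g y : Pt F K ⧸ torus F K) with e | e | e
        · exact e
        · exact absurd (e ▸ this) hb
        · exact absurd (e ▸ this) hc
    have hc : Ω c := by
      by_contra hc
      refine hno c fun g hg y hy => ?_
      rcases hall (perm g y : Pt F K ⧸ torus F K) with e | e | e
      · exact absurd (hy ▸ hback g hg y (e ▸ ha)) hc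
      · exact absurd (hy ▸ hback g hg y (e ▸ hb)) hc
      · exact e
    intro y
    refine hfull y ?_
    rcases hall (y : Pt F K ⧸ torus F K) with e | e | e <;> rw [e] <;> assumption

end CfsgLib.Singer3
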