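import Cfsg.Agent.Lib.Singer3.Intrans

/-! An overgroup of the torus with one elation has all transvections. -/

set_option autoImplicit false
set_option linter.style.haveILetI false
set_option linter.unusedSectionVars false

namespace CfsgLib.Singer3

open Module

variable {F K : Type*} [Field F] [Field K] [Algebra F K] [Finite K] (Φ : Frame F K) {G : Subgroup (K ≃ₗ[F] K)}

theorem char_dvd {p : ℕ} [CharP K p] [Fact p.Prime] : p ∣ Nat.card F := by
  haveI : Finite F := finite_base_field F K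
  haveI : Fintype F := Fintype.ofFinite F
  haveI : CharP F p := (algebraMap F K).charP (algebraMap F K).injective p
  obtain ⟨n, hp, hn⟩ := FiniteField.card F p
  rw [Nat.card_eq_fintype_card, hn]
  exact dvd_pow_self p n.ne_zero

theorem four_dvd {n : ℕ} (h : ∃ a, n = 2 ^ a) (h4 : 4 ≤ n) : 4 ∣ n := by
  obtain ⟨a, rfl⟩ := h
  rcases a with _ | _ | a
  · simp at h4
  · simp at h4
  · exact ⟨2 ^ a, by ring⟩

namespace Frame

variable {Φ}

theorem dual_mem (g : K ≃ₗ[F] K) (hg : g ∈ G) : Φ.dual g ∈ Φ.dualGroup G := Subgroup.mem_map_of_mem _ hg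

/-- if the lines are permuted transitively, each meets an invariant class equally often -/
theorem cnt_const {c : Pt F K ⧸ torus F K} (hc : InvClass G c) (ht : Trans (Φ.dualGroup G))
    (j j' : Pt F K ⧸ torus F K) : cnt Φ.D (torus F K) j = cnt Φ.D (torus F K) j' := by
  have key : ∀ m m' : Pt F K, cnt Φ.D (torus F K) ((m : Pt F K ⧸ torus F K) * c) ≤
      cnt Φ.D (torus F K) ((m' : Pt F K ⧸ torus F K) * c) := by
    intro m m'
    obtain ⟨_, ⟨g, hg, rfl⟩, hgm⟩ := ht m m'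
    rw [← card_inv_class (Φ := Φ) m c, ← card_inv_class (Φ := Φ) m' c]
    refine Nat.card_le_card_of_injective
      (fun y => (⟨perm g y.1, by rw [← hgm]; exact (Φ.inc_move g m y.1).2 y.2.1, hc g hg y.1 y.2.2⟩ :
        {y : Pt F K // m' * y ∈ Φ.D ∧ (y : Pt F K ⧸ torus F K) = c})) ?_
    intro y y' h
    exact Subtype.ext ((perm g).injective (congrArg Subtype.val h))
  obtain ⟨m, hm⟩ := QuotientGroup.mk_surjective (j * c⁻¹)
  obtain ⟨m', hm'⟩ := QuotientGroup.mk_surjective (j' * c⁻¹)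
  have h1 := key m m'
  have h2 := key m' m
  rw [hm, hm', inv_mul_cancel_right, inv_mul_cancel_right] at h1 h2
  omega

/-- an overgroup of the torus with an elation is transitive -/
theorem trans_of_flag (Φ : Frame F K) (hG : Over G) (h4 : Nat.card F ≠ 4) {x₀ l₀ : Pt F K} (hfl : Φ.Flag G x₀ l₀) :
    Trans G := by
  rcases trans_or_invClass hG Φ.dim h4 Φ with h | ⟨h3, c, hc⟩
  · exact h
  exfalso
  obtain ⟨p, hp⟩ := CharP.exists K
  haveI : Fintype K := Fintype.ofFinite K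
  haveI : Fact p.Prime := ⟨(CharP.char_is_prime K p)⟩
  have hpq : p ∣ Nat.card F := char_dvd (K := K)
  obtain ⟨rfl, h12, hx₀, hodd⟩ := centre_class h3 h4 hpq hc hfl
  rcases trans_or_invClass (over_dual (Φ := Φ) hG) Φ.dim h4 Φ with ht | ⟨-, c', hc'⟩
  · obtain ⟨b, d, -, -, -, -, e1, e2⟩ := triple Φ.pds h3 c
    exact not_equal (by omega) e1 e2 (cnt_const hc ht _ _) (cnt_const hc ht _ _)
  have hc2 : InvClass (Φ.dualGroup (Φ.dualGroup G)) c := by rwa [dualGroup_dualGroup]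
  have hl₀ : (l₀ : Pt F K ⧸ torus F K) = c' := (centre_class h3 h4 hpq hc' (flag_dual hfl)).2.2.1
  have hflag : ∀ {x l : Pt F K}, Φ.Flag G x l → (l : Pt F K ⧸ torus F K) = c' := fun h =>
    (centre_class h3 h4 hpq hc' (flag_dual h)).2.2.1
  have hax : ∀ m : Pt F K, (m : Pt F K ⧸ torus F K) = c' → m * x₀ ∈ Φ.D → Φ.Flag G x₀ m := by
    intro m hm hinc
    obtain ⟨g', hg', hgm⟩ := move_in_class (over_dual (Φ := Φ) hG) (hl₀.trans hm.symm)
    obtain ⟨g, hg, rfl⟩ := hg'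
    have := flag_conj hfl hg
    rw [hgm] at this
    exact flag_closure hfl this hinc
  obtain ⟨u, rfl⟩ := QuotientGroup.mk_surjective x₀
  have hk3 : ∀ j : Pt F K ⧸ torus F K, 3 ≤ cnt Φ.D (torus F K) j := fun j => by
    obtain ⟨b, d, -, -, -, -, e1, e2⟩ := triple Φ.pds h3 j
    exact ge_three h12 e1 e2
  set T := Nat.card (Φ.func G (u : K)) with hT
  have hT2 : ∃ a, T = 2 ^ a := exists_card_pow _
  have hline : ∀ m : Kˣ, Φ.θ ((m : K) * u) = 0 → T ∣ (cnt Φ.D (torus F K) (((m : Pt F K) : Pt F K ⧸ torus F K) * c) - 1) *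
      Nat.card (Φ.funcOn G (u : K) (m : K)) := by
    intro m hm
    have h := dvd_line hc u m hm
    have h' := (card_line_ne (Φ := Φ) (m : Pt F K) (u : Pt F K) c (Φ.inc_iff.2 hm)).1 hx₀
    rwa [← h', Nat.add_sub_cancel]
  have hT1 : ∀ m m' : Kˣ, Φ.Flag G (u : Pt F K) (m : Pt F K) → Φ.Flag G (u : Pt F K) (m' : Pt F K) →
      (m : Pt F K) ≠ (m' : Pt F K) → 4 ≤ T := by
    intro m m' h h' hne
    have := funcOn_inf (Φ := Φ) (G := G) (u := u) hne
    have := two_le_funcOn (Φ := Φ) h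
    have := two_le_funcOn (Φ := Φ) h'
    nlinarith
  have hk : ∀ m : Kˣ, ((m : Pt F K) : Pt F K ⧸ torus F K) = c' → Φ.θ ((m : K) * u) = 0 → Φ.Flag G (u : Pt F K) (m : Pt F K) :=
    fun m hm hinc => hax _ hm (Φ.inc_iff.2 hinc)
  have hother : ∀ l : Pt F K, ∃ m : Kˣ, ((m : Pt F K) : Pt F K ⧸ torus F K) = c' ∧ Φ.θ ((m : K) * u) = 0 ∧ (m : Pt F K) ≠ l := by
    intro l
    obtain ⟨m, hm1, hm2, hm3⟩ := exists_line_ne (Φ := Φ) (x := (u : Pt F K)) (l := l) c' ((hk3 _).trans' (by norm_num))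
    obtain ⟨m, rfl⟩ := QuotientGroup.mk_surjective m
    exact ⟨m, hm1, Φ.inc_iff.1 hm2, hm3⟩
  have hT4 : 4 ∣ T := by
    obtain ⟨m, hm1, hm2, -⟩ := hother (u : Pt F K)
    obtain ⟨m', hm1', hm2', hne⟩ := hother (m : Pt F K)
    exact four_dvd hT2 (hT1 m m' (hk m hm1 hm2) (hk m' hm1' hm2') hne.symm)
  have hmod4 : ∀ j, j ≠ c' * c → cnt Φ.D (torus F K) j % 4 = 1 := by
    intro j hj
    obtain ⟨m, hm1, hm2, -⟩ := exists_line_ne (Φ := Φ) (x := (u : Pt F K)) (l := (u : Pt F K)) (j * c⁻¹)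
      ((hk3 _).trans' (by norm_num))
    obtain ⟨m, rfl⟩ := QuotientGroup.mk_surjective m
    have hnf : ¬ Φ.Flag G (u : Pt F K) (m : Pt F K) := fun h => hj (by rw [← hflag h, hm1, inv_mul_cancel_right])
    have h := hline m (Φ.inc_iff.1 hm2)
    rw [hm1, inv_mul_cancel_right, funcOn_eq_bot hnf, mul_one] at h
    obtain ⟨r, hr⟩ := hT4.trans h
    have := hk3 j
    omega
  obtain ⟨b, d, hab, had, -, -, e1, e2⟩ := triple Φ.pds h3 (c' * c)
  have hb := hmod4 b hab.symm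
  have hd := hmod4 d had.symm
  have hq4 : Nat.card F % 4 = 0 := by
    haveI : Finite F := finite_base_field F K
    haveI : Fintype F := Fintype.ofFinite F
    haveI : CharP F 2 := (algebraMap F K).charP (algebraMap F K).injective 2
    obtain ⟨n, -, hn⟩ := FiniteField.card F 2
    rw [← Nat.card_eq_fintype_card] at hn
    exact Nat.mod_eq_zero_of_dvd (four_dvd ⟨n, hn⟩ (by omega))
  have hf0 : cnt Φ.D (torus F K) (c' * c) % 4 = 3 := by omega
  have hh : ∀ m : Kˣ, ((m : Pt F K) : Pt F K ⧸ torus F K) = c' → Φ.θ ((m : K) * u) = 0 →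
      T ≤ 2 * Nat.card (Φ.funcOn G (u : K) (m : K)) := by
    intro m hm1 hm2
    have h := hline m hm2
    rw [hm1] at h
    obtain ⟨a, ha⟩ := hT2
    have h2a : T ∣ 2 * Nat.card (Φ.funcOn G (u : K) (m : K)) := by
      obtain ⟨r, hr⟩ : ∃ r, cnt Φ.D (torus F K) (c' * c) - 1 = 2 * (2 * r + 1) :=
        ⟨(cnt Φ.D (torus F K) (c' * c) - 3) / 4, by omega⟩
      rw [hr, mul_comm 2 (2 * r + 1), mul_assoc] at h
      refine Nat.Coprime.dvd_of_dvd_mul_left ?_ h
      rw [ha]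
      exact Nat.Coprime.pow_left a ((Nat.prime_two.coprime_iff_not_dvd).2 (by omega))
    exact Nat.le_of_dvd (by have : 0 < Nat.card (Φ.funcOn G (u : K) (m : K)) := Nat.card_pos; omega) h2a
  have htwo : ∀ m : Kˣ, ((m : Pt F K) : Pt F K ⧸ torus F K) = c' → Φ.θ ((m : K) * u) = 0 →
      Nat.card (Φ.funcOn G (u : K) (m : K)) = 2 := by
    intro m hm1 hm2
    obtain ⟨m', hm1', hm2', hne⟩ := hother (m : Pt F K)
    have := funcOn_inf (Φ := Φ) (G := G) (u := u) hne
    have := hh m' hm1' hm2'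
    have := two_le_funcOn (Φ := Φ) (hk m hm1 hm2)
    have : 0 < Nat.card (Φ.funcOn G (u : K) (m' : K)) := Nat.card_pos
    nlinarith
  have hT4' : T = 4 := by
    obtain ⟨m, hm1, hm2, -⟩ := hother (u : Pt F K)
    have := hh m hm1 hm2
    rw [htwo m hm1 hm2] at this
    have := Nat.le_of_dvd (by rw [hT]; exact Nat.card_pos) hT4
    omega
  have hle : cnt Φ.D (torus F K) (c' * c) ≤ 3 := by
    rw [← hx₀]
    have hreps : ∀ d : {d : Pt F K // d ∈ Φ.D ∧ (d : Pt F K ⧸ torus F K) = c' * ((u : Pt F K) : Pt F K ⧸ torus F K)},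
        ∃ k : Kˣ, (k : Pt F K) = d.1 * (u : Pt F K)⁻¹ ∧ Φ.Mem G u k := by
      rintro ⟨d, hd, hdc⟩
      obtain ⟨m, hm⟩ := QuotientGroup.mk_surjective (d * (u : Pt F K)⁻¹)
      have hmc : ((m : Pt F K) : Pt F K ⧸ torus F K) = c' := by
        rw [hm, QuotientGroup.mk_mul, QuotientGroup.mk_inv, hdc, mul_inv_cancel_right]
      have hinc : (m : Pt F K) * (u : Pt F K) ∈ Φ.D := by rw [hm, inv_mul_cancel_right]; exact hd
      obtain ⟨k, hk', hmem⟩ := flag_rep (hk m hmc (Φ.inc_iff.1 hinc)) rfl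
      exact ⟨k, hk'.trans hm, hmem⟩
    choose kf hkf hmemf using hreps
    classical
    have h4' : Nat.card {v : Φ.func G (u : K) // v ≠ 0} + 1 = T := by
      rw [hT, ← Nat.card_congr (Equiv.optionSubtypeNe (0 : Φ.func G (u : K))), Finite.card_option]
    refine le_trans (Nat.card_le_card_of_injective
      (fun d => (⟨⟨(kf d : K), hmemf d⟩, fun e => (kf d).ne_zero (congrArg Subtype.val e)⟩ :
        {v : Φ.func G (u : K) // v ≠ 0})) ?_) (by omega)
    intro d d' h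
    have : kf d = kf d' := Units.ext (congrArg (fun v => ((v.1 : Φ.func G (u : K)) : K)) h)
    exact Subtype.ext (mul_right_cancel ((hkf d).symm.trans ((congrArg (fun k : Kˣ => (k : Pt F K)) this).trans (hkf d'))))
  have := hk3 (c' * c)
  have h30 : cnt Φ.D (torus F K) (c' * c) = 3 := by omega
  rw [h30] at e1 e2
  have := (q_cases Φ h3 h4).1
  exact three_not_mod_four (by omega) e1 e2 hb

end Frame

end CfsgLib.Singer3
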